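import Mathlib.Algebra.BigOperators.Group.List.Basic
import Mathlib.Algebra.Module.Basic
import Mathlib.Tactic.Abel
import Mathlib.Algebra.Group.Hom.Basic
import Mathlib.Data.List.GetD
import Mathlib.Tactic.Ring

/-!
# Packed coefficient vectors

A vector of small natural coefficients is stored as one natural number in base `B = 2 ^ 16`; linear combinations
are then computed by big-number arithmetic.

Owner: helper15.
-/

set_option autoImplicit false

namespace Cfsg.Agent.Lib.SolvCent15

/-- The base of the packing. -/
abbrev B : ℕ := 65536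

/-- The `m` lowest digits. -/
def unpack : ℕ → ℕ → List ℕ
  | 0, _ => []
  | m + 1, x => (x % B) :: unpack m (x / B)

/-- Inverse of `unpack`. -/
def pack : List ℕ → ℕ
  | [] => 0
  | a :: l => a + B * pack l

/-- `Σ cᵢ * tᵢ`. -/
def comb : List ℕ → List ℕ → ℕ
  | c :: cs, t :: ts => c * t + comb cs ts
  | _, _ => 0

/-- Reduction of all digits modulo `p`. -/
def modp (p m x : ℕ) : ℕ := pack ((unpack m x).map (· % p))

/-- A reduced linear combination of a table. -/
def lc (p m : ℕ) (cs tbl : List ℕ) : ℕ := modp p m (comb (cs.map (· % p)) tbl)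

theorem unpack_length : ∀ m x : ℕ, (unpack m x).length = m
  | 0, _ => rfl
  | m + 1, x => by simp [unpack, unpack_length m]

theorem unpack_lt : ∀ m x d : ℕ, d ∈ unpack m x → d < B
  | 0, x, d, h => by simp [unpack] at h
  | m + 1, x, d, h => by
    rcases List.mem_cons.1 (by simpa only [unpack] using h) with h | h
    · exact h ▸ Nat.mod_lt _ (by norm_num)
    · exact unpack_lt m _ _ h

theorem unpack_pack : ∀ l : List ℕ, (∀ d ∈ l, d < B) → unpack l.length (pack l) = l
  | [], _ => rfl
  | a :: l, h => by
    have ha : a < B := h a List.mem_cons_self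
    have h1 : pack (a :: l) % B = a := by
      rw [pack, Nat.add_mul_mod_self_left, Nat.mod_eq_of_lt ha]
    have h2 : pack (a :: l) / B = pack l := by
      rw [pack, Nat.add_mul_div_left _ _ (by norm_num), Nat.div_eq_of_lt ha, zero_add]
    rw [List.length_cons, unpack, h1, h2,
      unpack_pack l fun d hd => h d (List.mem_cons_of_mem _ hd)]

theorem unpack_zero : ∀ m : ℕ, unpack m 0 = List.replicate m 0
  | 0 => rfl
  | m + 1 => by simp [unpack, unpack_zero m, List.replicate_succ]

variable {V : Type*} [AddCommMonoid V]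

/-- `Σ lᵢ • bᵢ`. -/
def ev (b : ℕ → V) : List ℕ → V
  | [] => 0
  | a :: l => a • b 0 + ev (fun i => b (i + 1)) l

/-- The value of a packed vector. -/
def val (m : ℕ) (b : ℕ → V) (x : ℕ) : V := ev b (unpack m x)

theorem ev_replicate (b : ℕ → V) (m : ℕ) : ev b (List.replicate m 0) = 0 := by
  induction m generalizing b with
  | zero => rfl
  | succ m ih => rw [List.replicate_succ, ev, zero_smul, zero_add, ih]

theorem val_zero (m : ℕ) (b : ℕ → V) : val m b 0 = 0 := by
  rw [val, unpack_zero, ev_replicate]

theorem ev_map {W : Type*} [AddCommMonoid W] (f : V →+ W) (b : ℕ → V) (l : List ℕ) :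
    f (ev b l) = ev (fun i => f (b i)) l := by
  induction l generalizing b with
  | nil => simp [ev]
  | cons a l ih => rw [ev, map_add, map_nsmul, ih, ev]

theorem ev_congr {b b' : ℕ → V} : ∀ {l : List ℕ}, (∀ i < l.length, b i = b' i) → ev b l = ev b' l
  | [], _ => rfl
  | a :: l, h => by
    rw [ev, ev, h 0 (by simp), ev_congr fun i hi => h (i + 1) (by simp; omega)]

theorem ev_eq_zero {b : ℕ → V} {l : List ℕ} (h : ∀ i < l.length, b i = 0) : ev b l = 0 := by
  rw [ev_congr (b' := fun _ => (0 : V)) h]
  clear h
  induction l with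
  | nil => rfl
  | cons a l ih => rw [ev, smul_zero, zero_add]; exact ih

theorem ev_append (b : ℕ → V) (l l' : List ℕ) :
    ev b (l ++ l') = ev b l + ev (fun i => b (l.length + i)) l' := by
  induction l generalizing b with
  | nil => simp [ev]
  | cons a l ih =>
    rw [List.cons_append, ev, ih, ev, add_assoc]
    congr 2
    exact ev_congr fun i _ => by rw [List.length_cons]; congr 1; omega

/-- `x` has `m` digits, all at most `k`. -/
def Small (m k x : ℕ) : Prop := ∃ l : List ℕ, l.length = m ∧ (∀ d ∈ l, d ≤ k) ∧ x = pack l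

theorem small_modp {p : ℕ} (hp : 0 < p) (m x : ℕ) : Small m (p - 1) (modp p m x) :=
  ⟨_, by simp [unpack_length], fun d hd => by
    obtain ⟨a, -, rfl⟩ := List.mem_map.1 hd
    have := Nat.mod_lt a hp
    omega, rfl⟩

theorem pack_replicate (m : ℕ) : pack (List.replicate m 0) = 0 := by
  induction m with
  | zero => rfl
  | succ m ih => rw [List.replicate_succ, pack, ih, Nat.mul_zero, Nat.zero_add]

theorem pack_zipWith : ∀ (c : ℕ) (l l' : List ℕ), l.length = l'.length →
    pack (List.zipWith (fun a a' => c * a + a') l l') = c * pack l + pack l'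
  | c, [], [], _ => by simp [pack]
  | c, a :: l, a' :: l', h => by
    simp only [List.zipWith_cons_cons, pack, pack_zipWith c l l' (by simpa using h)]
    ring
  | c, [], a :: l', h => by simp at h
  | c, a :: l, [], h => by simp at h

theorem ev_zipWith : ∀ (b : ℕ → V) (c : ℕ) (l l' : List ℕ), l.length = l'.length →
    ev b (List.zipWith (fun a a' => c * a + a') l l') = c • ev b l + ev b l'
  | b, c, [], [], _ => by simp [ev]
  | b, c, a :: l, a' :: l', h => by
    simp only [List.zipWith_cons_cons, ev, ev_zipWith _ c l l' (by simpa using h), add_smul, mul_smul,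
      smul_add]
    exact add_add_add_comm _ _ _ _
  | b, c, [], a :: l', h => by simp at h
  | b, c, a :: l, [], h => by simp at h

theorem val_pack {m : ℕ} {l : List ℕ} (b : ℕ → V) (hl : l.length = m) (h : ∀ d ∈ l, d < B) :
    val m b (pack l) = ev b l := by
  rw [val, ← hl, unpack_pack l h]

/-- Values of combinations of small vectors. -/
theorem comb_val (m k k' : ℕ) (b : ℕ → V) : ∀ (cs tbl : List ℕ),
    (∀ t ∈ tbl, Small m k t) → (∀ c ∈ cs, c ≤ k') → k' * k * tbl.length < B → k < B →
    Small m (k' * k * tbl.length) (comb cs tbl) ∧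
      val m b (comb cs tbl) = ev (fun i => val m b (tbl.getD i 0)) (cs.take tbl.length)
  | [], tbl, _, _, _, _ => by
    refine ⟨⟨List.replicate m 0, by simp, fun d hd => ?_, ?_⟩, ?_⟩
    · simp [(List.mem_replicate.1 hd).2]
    · simp [comb, pack_replicate]
    · simp [comb, val_zero, ev]
  | c :: cs, [], _, _, _, _ => by
    refine ⟨⟨List.replicate m 0, by simp, fun d hd => ?_, ?_⟩, ?_⟩
    · simp [(List.mem_replicate.1 hd).2]
    · simp [comb, pack_replicate]
    · simp [comb, val_zero, ev]
  | c :: cs, t :: ts, ht, hc, hB, hk => by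
    rw [List.length_cons, Nat.mul_add, mul_one] at hB ⊢
    obtain ⟨⟨L, hL, hLb, hLe⟩, hv⟩ := comb_val m k k' b cs ts
      (fun t' h' => ht t' (List.mem_cons_of_mem _ h'))
      (fun c' h' => hc c' (List.mem_cons_of_mem _ h')) (by omega) hk
    obtain ⟨l, hl, hlb, hle⟩ := ht t List.mem_cons_self
    have hbound : ∀ d ∈ List.zipWith (fun a a' => c * a + a') l L,
        d ≤ k' * k * ts.length + k' * k := by
      intro d hd
      rw [List.mem_iff_getElem] at hd
      obtain ⟨i, hi, rfl⟩ := hd
      rw [List.getElem_zipWith]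
      simp only [List.length_zipWith] at hi
      have h1 := Nat.mul_le_mul (hc c List.mem_cons_self) (hlb _ (List.getElem_mem (show i < l.length by omega)))
      have h2 := hLb _ (List.getElem_mem (show i < L.length by omega))
      omega
    have hlen : (List.zipWith (fun a a' => c * a + a') l L).length = m := by
      simp [hl, hL]
    refine ⟨⟨_, hlen, hbound, ?_⟩, ?_⟩
    · rw [pack_zipWith c l L (hl.trans hL.symm), comb, ← hle, ← hLe]
    · rw [comb, hle, hLe, ← pack_zipWith c l L (hl.trans hL.symm),
        val_pack b hlen (fun d hd => lt_of_le_of_lt (hbound d hd) hB),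
        ev_zipWith b c l L (hl.trans hL.symm)]
      rw [List.take_succ_cons, ev]
      congr 1
      · rw [List.getD_cons_zero, val_pack b hl fun d hd => lt_of_le_of_lt (hlb d hd) hk]
      · rw [← val_pack b hL (fun d hd => by have := hLb d hd; omega), ← hLe, hv]
        exact ev_congr fun i _ => by rw [List.getD_cons_succ]

variable {p : ℕ} (hV : ∀ v : V, p • v = 0)
include hV

theorem mod_smul (a : ℕ) (v : V) : (a % p) • v = a • v := by
  conv_rhs => rw [← Nat.mod_add_div a p, add_smul, mul_comm, mul_smul, hV, smul_zero, add_zero]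

theorem ev_map_mod (b : ℕ → V) (l : List ℕ) : ev b (l.map (· % p)) = ev b l := by
  induction l generalizing b with
  | nil => rfl
  | cons a l ih => rw [List.map_cons, ev, ev, mod_smul hV, ih]

theorem val_modp (hp : 0 < p) (hpB : p ≤ B) (m : ℕ) (b : ℕ → V) (x : ℕ) :
    val m b (modp p m x) = val m b x := by
  rw [modp, val_pack b (by simp [unpack_length]), ev_map_mod hV]
  · rfl
  · intro d hd
    obtain ⟨a, -, rfl⟩ := List.mem_map.1 hd
    exact lt_of_lt_of_le (Nat.mod_lt a hp) hpB

/-- The value of a reduced combination. -/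
theorem lc_val (hp : 0 < p) (m : ℕ) (b : ℕ → V) (cs tbl : List ℕ)
    (ht : ∀ t ∈ tbl, Small m (p - 1) t) (hlen : (p - 1) * (p - 1) * tbl.length < B) (hpB : p ≤ B)
    (hcs : cs.length ≤ tbl.length) :
    val m b (lc p m cs tbl) = ev (fun i => val m b (tbl.getD i 0)) cs := by
  rw [lc, val_modp hV hp hpB]
  have h := comb_val m (p - 1) (p - 1) b (cs.map (· % p)) tbl ht (fun c hc => by
    obtain ⟨a, -, rfl⟩ := List.mem_map.1 hc
    have := Nat.mod_lt a hp
    omega) hlen (by omega)
  rw [h.2, List.take_of_length_le (by simpa using hcs), ev_map_mod hV]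

omit hV

/-- The unit vectors. -/
theorem val_pow (b : ℕ → V) : ∀ (m i : ℕ), i < m → val m b (B ^ i) = b i
  | 0, i, h => absurd h (Nat.not_lt_zero i)
  | m + 1, 0, _ => by
    rw [val, unpack, pow_zero, Nat.mod_eq_of_lt (by norm_num), Nat.div_eq_of_lt (by norm_num), ev,
      one_smul, unpack_zero, ev_replicate, add_zero]
  | m + 1, i + 1, h => by
    rw [val, unpack, pow_succ, Nat.mul_mod_left, Nat.mul_div_cancel _ (by norm_num), ev, zero_smul,
      zero_add]
    exact val_pow (fun i => b (i + 1)) m i (by omega)

/-- Moving a short vector upwards. -/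
theorem val_shift (b : ℕ → V) (d : ℕ) : ∀ (x : ℕ), x < B ^ d → ∀ (m s : ℕ), s + d ≤ m →
    val m b (x * B ^ s) = val d (fun i => b (s + i)) x := by
  intro x hx m s
  induction s generalizing b m with
  | zero =>
    intro hm
    rw [pow_zero, mul_one]
    simp only [Nat.zero_add]
    induction d generalizing b x m with
    | zero =>
      rw [pow_zero, Nat.lt_one_iff] at hx
      rw [hx, val_zero, val_zero]
    | succ d ih =>
      cases m with
      | zero => omega
      | succ m =>
        have h := ih (x / B) (Nat.div_lt_of_lt_mul (by rwa [← pow_succ'])) (fun i => b (i + 1)) m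
          (by omega)
        show ev b (unpack (m + 1) x) = ev b (unpack (d + 1) x)
        rw [unpack, unpack, ev, ev]
        exact congrArg _ h
  | succ s ih =>
    intro hm
    cases m with
    | zero => omega
    | succ m =>
      rw [val, unpack, pow_succ, ← mul_assoc, Nat.mul_mod_left, Nat.mul_div_cancel _ (by norm_num),
        ev, zero_smul, zero_add]
      refine (ih (fun i => b (i + 1)) m (by omega)).trans ?_
      congr 1
      funext i
      congr 1
      omega

theorem small_lt {m k x : ℕ} (h : Small m k x) (hk : k < B) : x < B ^ m := by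
  obtain ⟨l, rfl, hb, rfl⟩ := h
  induction l with
  | nil => simp [pack]
  | cons a l ih =>
    have ha : a < B := lt_of_le_of_lt (hb a List.mem_cons_self) hk
    have hl := ih fun d hd => hb d (List.mem_cons_of_mem _ hd)
    rw [pack, List.length_cons, pow_succ']
    calc a + B * pack l < B * (pack l + 1) := by rw [Nat.mul_add, mul_one]; omega
      _ ≤ B * B ^ l.length := Nat.mul_le_mul_left _ hl

end Cfsg.Agent.Lib.SolvCent15
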