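import Mathlib.Algebra.Module.Basic
import Mathlib.Data.List.GetD
import Cfsg.Agent.Lib.SolvCent15.Pack

/-!
# Certificates that a spanning family of a module vanishes

Letters act on an abstract module; the kernel only sees their permutation codes (image lists) and packed
coefficient vectors.  A *rule* is a list of letters with scalars such that every common eigenvector is zero.

Owner: helper15.
-/

set_option autoImplicit false

namespace Cfsg.Agent.Lib.SolvCent15

/-- The image list of a word; letters out of range act trivially. -/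
def code (n : ℕ) (cd : List (List ℕ)) : List ℕ → List ℕ
  | [] => List.range n
  | g :: w => (code n cd w).map fun i => (cd.getD g (List.range n)).getD i 0

section
variable {V : Type*} [AddCommMonoid V]

/-- The action of a letter. -/
def op (ops : List (V →+ V)) (g : ℕ) : V →+ V := ops.getD g (AddMonoidHom.id V)

/-- The action of a word. -/
def act (ops : List (V →+ V)) : List ℕ → V →+ V
  | [] => AddMonoidHom.id V
  | g :: w => (op ops g).comp (act ops w)

theorem act_append (ops : List (V →+ V)) (w w' : List ℕ) (v : V) :
    act ops (w ++ w') v = act ops w (act ops w' v) := by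
  induction w with
  | nil => rfl
  | cons g w ih => simp only [List.cons_append, act, AddMonoidHom.comp_apply, ih]

/-- Equal codes give equal actions. -/
def Sound (n : ℕ) (cd : List (List ℕ)) (ops : List (V →+ V)) : Prop :=
  ∀ w w' : List ℕ, code n cd w = code n cd w' → act ops w = act ops w'

/-- Every common eigenvector of the rule is zero. -/
def Kills (ops : List (V →+ V)) (R : List (ℕ × ℕ)) : Prop :=
  ∀ v : V, (∀ q ∈ R, op ops q.1 v = q.2 • v) → v = 0

end

/-- Decoding of `m` coefficients of `w` bits each. -/
def dec (w : ℕ) : ℕ → ℕ → List ℕ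
  | 0, _ => []
  | m + 1, x => (x % 2 ^ w) :: dec w m (x / 2 ^ w)

theorem dec_length (w : ℕ) : ∀ m x : ℕ, (dec w m x).length = m
  | 0, _ => rfl
  | m + 1, x => by simp [dec, dec_length w m]

/-- Is the vector reduced? -/
def smallB (p m x : ℕ) : Bool := modp p m x == x

/-- A spanning family of size `m` with the rows of some letters. -/
structure Model where
  m : ℕ
  rows : List (ℕ × List ℕ)

/-- The rows of a letter. -/
def Model.row (M : Model) (g : ℕ) : Option (List ℕ) := M.rows.lookup g

/-- Image of a vector under a letter. -/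
def Model.app (p : ℕ) (M : Model) (g x : ℕ) : Option ℕ :=
  (M.row g).map fun R => lc p M.m (unpack M.m x) R

/-- Image of a vector under a word. -/
def Model.appW (p : ℕ) (M : Model) : List ℕ → ℕ → Option ℕ
  | [], x => some x
  | g :: w, x => (M.appW p w x).bind fun y => M.app p g y

/-- An induction step: coset representatives; for each new letter `g` and each representative `r`, an index `l`
and a word `h` with `g r = r_l h`. -/
structure IndCert where
  reps : List (List ℕ)
  gens : List (ℕ × List (ℕ × List ℕ))

/-- The row of a new letter. -/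
def indRow (p : ℕ) (M : Model) (N : ℕ) (t : List (ℕ × List ℕ)) : List ℕ :=
  (List.range (N * M.m)).map fun i =>
    ((M.appW p (t.getD (i / M.m) (0, [])).2 (B ^ (i % M.m))).getD 0) *
      B ^ ((t.getD (i / M.m) (0, [])).1 * M.m)

/-- The induced model. -/
def indModel (p : ℕ) (M : Model) (C : IndCert) : Model :=
  ⟨C.reps.length * M.m, C.gens.map fun e => (e.1, indRow p M C.reps.length e.2)⟩

/-- The conditions on an induction step. -/
def indOK (p n : ℕ) (cd : List (List ℕ)) (M : Model) (C : IndCert) : Bool :=
  decide (0 < C.reps.length) && (C.reps.getD 0 [0] == []) &&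
    (List.range M.m).all (fun j => smallB p M.m (B ^ j)) &&
    decide ((p - 1) * (p - 1) * (C.reps.length * M.m) < B) &&
  C.gens.all fun e => (List.range C.reps.length).all fun c =>
    decide ((e.2.getD c (0, [])).1 < C.reps.length) &&
    (code n cd (e.1 :: C.reps.getD c []) ==
      code n cd (C.reps.getD (e.2.getD c (0, [])).1 [] ++ (e.2.getD c (0, [])).2)) &&
    (List.range M.m).all fun j => (M.appW p (e.2.getD c (0, [])).2 (B ^ j)).isSome

/-- A step producing a vanishing vector: the `inl` case applies a rule to a vector, the `inr` case a letter to an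
earlier vanishing vector. -/
inductive Step where
  | fix (r x : ℕ)
  | mul (g j : ℕ)

/-- Certificate of a reduction to the sub-family `keep`. -/
structure RedCert where
  w : ℕ
  keep : List ℕ
  steps : List Step
  img : List ℕ
  coef : List ℕ

/-- The vanishing vectors. -/
def zeros (p w : ℕ) (M : Model) (rules : List (List (ℕ × ℕ))) : List Step → List ℕ → Option (List ℕ)
  | [], Z => some Z
  | Step.fix r x :: ss, Z =>
    if smallB p M.m (pack (dec w M.m x)) &&
        decide (r < rules.length) &&
        (rules.getD r []).all (fun q => decide (q.2 < p) &&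
          (M.app p q.1 (pack (dec w M.m x)) == some (lc p M.m [q.2] [pack (dec w M.m x)]))) then
      zeros p w M rules ss (Z ++ [pack (dec w M.m x)])
    else none
  | Step.mul g j :: ss, Z =>
    if j < Z.length then
      match M.app p g (Z.getD j 0) with
      | some y => zeros p w M rules ss (Z ++ [y])
      | none => none
    else none

/-- The table of images of the old family in the new one. -/
def imgTbl (C : RedCert) : List ℕ := C.img.map fun y => pack (dec C.w C.keep.length y)

/-- The reduced model. -/
def redModel (p : ℕ) (M : Model) (C : RedCert) : Model :=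
  ⟨C.keep.length, M.rows.map fun e =>
    (e.1, C.keep.map fun i => lc p C.keep.length (unpack M.m (e.2.getD i 0)) (imgTbl C))⟩

/-- The conditions on a reduction step. -/
def redOK (p : ℕ) (M : Model) (rules : List (List (ℕ × ℕ))) (C : RedCert) : Bool :=
  match zeros p C.w M rules C.steps [] with
  | none => false
  | some Z =>
    decide ((p - 1) * (p - 1) * (M.m + Z.length + 2) < B) &&
    decide (C.keep.length ≤ M.m) && (C.img.length == M.m) &&
    C.keep.all (fun i => decide (i < M.m) && smallB p M.m (B ^ i)) &&
    (imgTbl C).all (smallB p C.keep.length) &&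
    (List.range M.m).all fun i =>
      smallB p M.m (B ^ i) &&
      (lc p M.m (dec C.w Z.length (C.coef.getD i 0)) Z ==
        lc p M.m [1, p - 1]
          [B ^ i, lc p M.m (unpack C.keep.length ((imgTbl C).getD i 0)) (C.keep.map (B ^ ·))])

/-- The model of a line spanned by an eigenvector. -/
def lineModel (R : List (ℕ × ℕ)) : Model := ⟨1, R.map fun q => (q.1, [q.2])⟩

/-- Equality test for models. -/
def Model.same (M M' : Model) : Bool := (M.m == M'.m) && (M.rows == M'.rows)

theorem Model.eq_of_same {M M' : Model} (h : M.same M' = true) : M = M' := by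
  simp only [Model.same, Bool.and_eq_true, beq_iff_eq] at h
  obtain ⟨m, rows⟩ := M
  obtain ⟨m', rows'⟩ := M'
  obtain ⟨h1, h2⟩ := h
  subst h1; subst h2; rfl

theorem small_of_smallB {p m x : ℕ} (hp : 0 < p) (h : smallB p m x = true) : Small m (p - 1) x := by
  simp only [smallB, beq_iff_eq] at h
  exact h ▸ small_modp hp m x

theorem small_zero (m k : ℕ) : Small m k 0 :=
  ⟨List.replicate m 0, by simp, fun d hd => by simp [(List.mem_replicate.1 hd).2], (pack_replicate m).symm⟩

theorem pack_append : ∀ l l' : List ℕ, pack (l ++ l') = pack l + B ^ l.length * pack l'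
  | [], l' => by simp [pack]
  | a :: l, l' => by
    rw [List.cons_append, pack, pack, pack_append l l', List.length_cons, pow_succ]
    ring

theorem small_shift {d m k x s : ℕ} (h : Small d k x) (hs : s + d ≤ m) : Small m k (x * B ^ s) := by
  obtain ⟨l, rfl, hb, rfl⟩ := h
  refine ⟨List.replicate s 0 ++ (l ++ List.replicate (m - (s + l.length)) 0), ?_, ?_, ?_⟩
  · simp only [List.length_append, List.length_replicate]; omega
  · intro d hd
    rcases List.mem_append.1 hd with hd | hd
    · simp [(List.mem_replicate.1 hd).2]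
    rcases List.mem_append.1 hd with hd | hd
    · exact hb d hd
    · simp [(List.mem_replicate.1 hd).2]
  · rw [pack_append, pack_append, pack_replicate, pack_replicate, List.length_replicate, Nat.mul_zero,
      Nat.add_zero, Nat.zero_add, Nat.mul_comm]

section Soundness
variable {V : Type*} [AddCommMonoid V] {p : ℕ} {n : ℕ} {cd : List (List ℕ)} {ops : List (V →+ V)}

/-- The rows of `M` describe the action on `b`. -/
def Holds (p : ℕ) (ops : List (V →+ V)) (M : Model) (b : ℕ → V) : Prop :=
  (p - 1) * (p - 1) * M.m < B ∧ ∀ e ∈ M.rows, e.2.length = M.m ∧ (∀ x ∈ e.2, Small M.m (p - 1) x) ∧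
    ∀ i < M.m, op ops e.1 (b i) = val M.m b (e.2.getD i 0)

/-- `M` describes a family whose vanishing gives `v = 0`. -/
def Describes (p : ℕ) (ops : List (V →+ V)) (M : Model) (v : V) : Prop :=
  ∃ b : ℕ → V, Holds p ops M b ∧ ((∀ i < M.m, b i = 0) → v = 0)

variable (hp : 0 < p) (hpB : p ≤ B) (hV : ∀ v : V, p • v = 0)
include hp hpB hV

theorem Holds.app {M : Model} {b : ℕ → V} (hM : Holds p ops M b) {g x y : ℕ}
    (hy : M.app p g x = some y) :
    Small M.m (p - 1) y ∧ val M.m b y = op ops g (val M.m b x) := by
  simp only [Model.app, Option.map_eq_some_iff] at hy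
  obtain ⟨R, hR, rfl⟩ := hy
  have hmem : (g, R) ∈ M.rows := by
    obtain ⟨l₁, l₂, h, -⟩ := List.lookup_eq_some_iff.1 hR
    rw [h]; simp
  obtain ⟨hlen, hsmall, hval⟩ := hM.2 _ hmem
  refine ⟨small_modp hp _ _, ?_⟩
  rw [lc_val hV hp M.m b _ R hsmall (by rw [show R.length = M.m from hlen]; exact hM.1) hpB
      (by rw [unpack_length]; exact hlen.ge), val, ev_map]
  exact ev_congr fun i hi => (hval i (by rwa [unpack_length] at hi)).symm

theorem Holds.appW {M : Model} {b : ℕ → V} (hM : Holds p ops M b) : ∀ (w : List ℕ) {x y : ℕ},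
    Small M.m (p - 1) x → M.appW p w x = some y →
      Small M.m (p - 1) y ∧ val M.m b y = act ops w (val M.m b x)
  | [], x, y, hx, h => by
    simp only [Model.appW, Option.some.injEq] at h
    subst h
    exact ⟨hx, rfl⟩
  | g :: w, x, y, hx, h => by
    simp only [Model.appW, Option.bind_eq_some_iff] at h
    obtain ⟨z, hz, hy⟩ := h
    obtain ⟨-, hz2⟩ := Holds.appW hM w hx hz
    obtain ⟨h1, h2⟩ := hM.app hp hpB hV hy
    exact ⟨h1, by rw [h2, hz2]; rfl⟩

/-- Start from an eigenvector. -/
theorem describes_line (hpB' : (p - 1) * (p - 1) < B) {R : List (ℕ × ℕ)} {v : V}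
    (hR : R.all (fun q => decide (q.2 < p)) = true) (hv : ∀ q ∈ R, op ops q.1 v = q.2 • v) :
    Describes p ops (lineModel R) v := by
  refine ⟨fun _ => v, ⟨by simpa [lineModel] using hpB', ?_⟩, fun h => h 0 (by simp [lineModel])⟩
  intro e he
  obtain ⟨q, hq, rfl⟩ := List.mem_map.1 he
  have hq2 : q.2 < p := by simpa using List.all_eq_true.1 hR q hq
  refine ⟨rfl, ?_, ?_⟩
  · intro x hx
    obtain rfl := List.mem_singleton.1 hx
    exact ⟨[q.2], rfl, fun d hd => by rw [List.mem_singleton.1 hd]; omega, by simp [pack]⟩
  · intro i hi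
    obtain rfl : i = 0 := by simp [lineModel] at hi; omega
    show op ops q.1 v = val 1 (fun _ => v) q.2
    rw [val, unpack, unpack, ev, ev, add_zero, Nat.mod_eq_of_lt (by omega), hv q hq]

/-- The induction step. -/
theorem describes_ind (hS : Sound n cd ops) {M : Model} {C : IndCert} {v : V}
    (hok : indOK p n cd M C = true) (hM : Describes p ops M v) :
    Describes p ops (indModel p M C) v := by
  obtain ⟨b, hb, hb0⟩ := hM
  simp only [indOK, Bool.and_eq_true, decide_eq_true_eq, beq_iff_eq, List.all_eq_true,
    List.mem_range] at hok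
  obtain ⟨⟨⟨⟨hN, hrep0⟩, hpow⟩, hB⟩, hg⟩ := hok
  set d := M.m
  set N := C.reps.length
  let b' : ℕ → V := fun i => act ops (C.reps.getD (i / d) []) (b (i % d))
  refine ⟨b', ⟨hB, ?_⟩, fun h => hb0 fun j hj => ?_⟩
  · intro e' he'
    obtain ⟨e, he, rfl⟩ := List.mem_map.1 he'
    have key : ∀ i < N * d,
        Small (N * d) (p - 1) (((M.appW p (e.2.getD (i / d) (0, [])).2 (B ^ (i % d))).getD 0) *
          B ^ ((e.2.getD (i / d) (0, [])).1 * d)) ∧
        op ops e.1 (b' i) = val (N * d) b'
          (((M.appW p (e.2.getD (i / d) (0, [])).2 (B ^ (i % d))).getD 0) *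
            B ^ ((e.2.getD (i / d) (0, [])).1 * d)) := by
      intro i hi
      have hd : 0 < d := Nat.pos_of_ne_zero fun h => by rw [h, Nat.mul_zero] at hi; omega
      have hc : i / d < N := (Nat.div_lt_iff_lt_mul hd).2 hi
      have hj : i % d < d := Nat.mod_lt _ hd
      obtain ⟨⟨hl, hcode⟩, hsome⟩ := hg e he (i / d) hc
      obtain ⟨y, hy⟩ := Option.isSome_iff_exists.1 (hsome _ hj)
      obtain ⟨hys, hyv⟩ := hb.appW hp hpB hV _ (small_of_smallB hp (hpow _ hj)) hy
      rw [hy, Option.getD_some]
      generalize (e.2.getD (i / d) (0, [])).1 = l at hl hcode ⊢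
      have hle : l * d + d ≤ N * d := by
        calc l * d + d = (l + 1) * d := by ring
          _ ≤ N * d := Nat.mul_le_mul_right d hl
      refine ⟨small_shift hys hle, ?_⟩
      rw [val_shift b' d y (small_lt hys (by omega)) (N * d) (l * d) hle]
      have e1 : val d (fun k => b' (l * d + k)) y = act ops (C.reps.getD l []) (val d b y) := by
        rw [val, val, ev_map]
        refine ev_congr fun k hk => ?_
        rw [unpack_length] at hk
        show act ops (C.reps.getD ((l * d + k) / d) []) (b ((l * d + k) % d)) = _
        rw [Nat.mul_add_mod_self_right, Nat.mod_eq_of_lt hk, Nat.add_comm,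
          Nat.add_mul_div_right _ _ hd, Nat.div_eq_of_lt hk, Nat.zero_add]
      rw [e1, hyv, val_pow b d _ hj, ← act_append, ← hS _ _ hcode]
      rfl
    refine ⟨by simp [indModel, indRow], ?_, ?_⟩
    · intro x hx
      obtain ⟨i, hi, rfl⟩ := List.mem_map.1 hx
      exact (key i (List.mem_range.1 hi)).1
    · intro i hi
      show _ = val (N * d) b' ((indRow p M N e.2).getD i 0)
      have hi' : i < N * d := hi
      refine (key i hi').2.trans ?_
      congr 1
      simp [indRow, d, N, List.getD_eq_getElem?_getD, List.getElem?_range hi']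
  · have h1 := h j (by
      show j < N * d
      calc j < 1 * d := by rwa [Nat.one_mul]
        _ ≤ N * d := Nat.mul_le_mul_right d hN)
    have hget : C.reps.getD 0 [] = [] := by
      rw [List.getD_eq_getElem _ _ hN] at hrep0 ⊢
      exact hrep0
    simp only [b', Nat.div_eq_of_lt hj, Nat.mod_eq_of_lt hj, hget] at h1
    exact h1

theorem zeros_val (hp1 : (p - 1) * (p - 1) < B) {M : Model} {b : ℕ → V} (hM : Holds p ops M b) {w : ℕ}
    {rules : List (List (ℕ × ℕ))} (hK : ∀ R ∈ rules, Kills ops R) :
    ∀ (ss : List Step) (Z Z' : List ℕ), zeros p w M rules ss Z = some Z' →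
      (∀ z ∈ Z, Small M.m (p - 1) z ∧ val M.m b z = 0) →
      ∀ z ∈ Z', Small M.m (p - 1) z ∧ val M.m b z = 0
  | [], Z, Z', h, hZ => by
    simp only [zeros, Option.some.injEq] at h
    exact h ▸ hZ
  | Step.fix r x :: ss, Z, Z', h, hZ => by
    simp only [zeros] at h
    split at h
    · rename_i hc
      simp only [Bool.and_eq_true, decide_eq_true_eq, List.all_eq_true, beq_iff_eq] at hc
      obtain ⟨⟨hx, hr⟩, hq⟩ := hc
      refine zeros_val hp1 hM hK ss _ Z' h fun z hz => ?_
      rcases List.mem_append.1 hz with hz | hz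
      · exact hZ z hz
      obtain rfl := List.mem_singleton.1 hz
      have hxs := small_of_smallB hp hx
      refine ⟨hxs, hK _ (List.getElem_mem hr) _ fun q hq' => ?_⟩
      rw [List.getD_eq_getElem _ _ hr] at hq
      obtain ⟨-, hap⟩ := hq q hq'
      rw [← (hM.app hp hpB hV hap).2]
      rw [lc_val hV hp M.m b [q.2] _ (by simpa using hxs) (by simpa using hp1) hpB (by simp)]
      simp [ev]
    · exact absurd h (by simp)
  | Step.mul g j :: ss, Z, Z', h, hZ => by
    simp only [zeros] at h
    split at h
    · rename_i hj
      split at h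
      · rename_i y hy
        refine zeros_val hp1 hM hK ss _ Z' h fun z hz => ?_
        rcases List.mem_append.1 hz with hz | hz
        · exact hZ z hz
        obtain rfl := List.mem_singleton.1 hz
        obtain ⟨h1, h2⟩ := hM.app hp hpB hV hy
        refine ⟨h1, ?_⟩
        rw [h2, List.getD_eq_getElem _ _ hj, (hZ _ (List.getElem_mem hj)).2, map_zero]
      · exact absurd h (by simp)
    · exact absurd h (by simp)

/-- The reduction step. -/
theorem describes_red {M : Model} {rules : List (List (ℕ × ℕ))} {C : RedCert} {v : V}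
    (hK : ∀ R ∈ rules, Kills ops R) (hok : redOK p M rules C = true) (hM : Describes p ops M v) :
    Describes p ops (redModel p M C) v := by
  obtain ⟨b, hb, hb0⟩ := hM
  simp only [redOK] at hok
  split at hok
  · exact absurd hok (by simp)
  rename_i Z hZ
  simp only [Bool.and_eq_true, decide_eq_true_eq, beq_iff_eq, List.all_eq_true,
    List.mem_range] at hok
  obtain ⟨⟨⟨⟨⟨hB, hkl⟩, himg⟩, hkeep⟩, htbl⟩, hrel⟩ := hok
  have hle' : ∀ {a : ℕ}, a ≤ M.m + Z.length + 2 → (p - 1) * (p - 1) * a < B := fun ha =>
    lt_of_le_of_lt (Nat.mul_le_mul_left _ ha) hB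
  have hZ0 := zeros_val hp hpB hV (by simpa using hle' (show 1 ≤ _ by omega)) hb hK C.steps [] Z hZ (by simp)
  set m' := C.keep.length
  let b' : ℕ → V := fun k => b (C.keep.getD k 0)
  have htl : (imgTbl C).length = M.m := by simpa [imgTbl] using himg
  have hle : ∀ {a : ℕ}, a ≤ M.m + Z.length + 2 → (p - 1) * (p - 1) * a < B := fun ha =>
    lt_of_le_of_lt (Nat.mul_le_mul_left _ ha) hB
  have hb' : ∀ i < M.m, b i = val m' b' ((imgTbl C).getD i 0) := by
    intro i hi
    obtain ⟨hsi, hr⟩ := hrel i hi
    have hk : ∀ t ∈ C.keep.map (B ^ ·), Small M.m (p - 1) t := by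
      intro t ht
      obtain ⟨k, hk, rfl⟩ := List.mem_map.1 ht
      exact small_of_smallB hp (hkeep k hk).2
    have he : val M.m b (lc p M.m (unpack m' ((imgTbl C).getD i 0)) (C.keep.map (B ^ ·))) =
        val m' b' ((imgTbl C).getD i 0) := by
      rw [lc_val hV hp M.m b _ _ hk (hle (by simp only [List.length_map]; omega)) hpB
        (by simp [unpack_length, m'])]
      refine ev_congr fun k hk' => ?_
      rw [unpack_length] at hk'
      rw [List.getD_eq_getElem _ _ (by simpa [m'] using hk'), List.getElem_map,
        val_pow b M.m _ (hkeep _ (List.getElem_mem _)).1]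
      simp only [b', List.getD_eq_getElem _ _ hk']
    have h0 := congrArg (val M.m b) hr
    rw [lc_val hV hp M.m b _ Z (fun z hz => (hZ0 z hz).1) (hle (by omega)) hpB (by simp [dec_length]),
      lc_val hV hp M.m b _ _ (by
        intro t ht
        simp only [List.mem_cons, List.not_mem_nil, or_false] at ht
        rcases ht with rfl | rfl
        · exact small_of_smallB hp hsi
        · exact small_modp hp _ _) (hle (by simp)) hpB (by simp)] at h0
    rw [ev_eq_zero fun k hk' => by
      rw [dec_length] at hk'
      rw [List.getD_eq_getElem _ _ hk']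
      exact (hZ0 _ (List.getElem_mem _)).2] at h0
    simp only [ev, List.getD_cons_zero, List.getD_cons_succ, val_pow b M.m i hi, he, one_smul,
      add_zero] at h0
    generalize val m' b' ((imgTbl C).getD i 0) = y at h0 ⊢
    calc b i = b i + p • y := by rw [hV, add_zero]
      _ = (b i + (p - 1) • y) + y := by rw [add_assoc, ← succ_nsmul, Nat.sub_add_cancel hp]
      _ = y := by rw [← h0, zero_add]
  refine ⟨b', ⟨hle (show m' ≤ _ by omega), ?_⟩, fun h => hb0 fun i hi => ?_⟩
  · intro e' he'
    obtain ⟨e, he, rfl⟩ := List.mem_map.1 he'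
    obtain ⟨hlen, hsm, hop⟩ := hb.2 e he
    refine ⟨by simp [m', redModel], ?_, ?_⟩
    · intro x hx
      obtain ⟨i, -, rfl⟩ := List.mem_map.1 hx
      exact small_modp hp _ _
    · intro k hk
      show op ops e.1 (b' k) = val m' b' _
      have hk' : k < C.keep.length := hk
      have hi := (hkeep _ (List.getElem_mem hk')).1
      simp only [b', List.getD_eq_getElem _ _ hk']
      rw [List.getD_eq_getElem _ _ (by simpa using hk'), List.getElem_map, hop _ hi,
        lc_val hV hp m' b' _ _ (fun t ht => small_of_smallB hp (htbl t ht))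
          (hle (by omega)) hpB (by rw [unpack_length, htl]), val]
      exact ev_congr fun j hj => hb' j (by rwa [unpack_length] at hj)
  · rw [hb' i hi, val]
    exact ev_eq_zero fun k hk => h k (by rwa [unpack_length] at hk)

omit hp hpB hV in
/-- An empty family. -/
theorem Describes.eq_zero {M : Model} {v : V} (h : Describes p ops M v) (hm : M.m = 0) : v = 0 := by
  obtain ⟨b, -, h0⟩ := h
  exact h0 fun i hi => absurd hi (by omega)

end Soundness

end Cfsg.Agent.Lib.SolvCent15
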