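import Mathlib.Data.Nat.Bitwise
import Cfsg.Agent.Lib.SolvCent15.Model

/-!
# Certificates in characteristic two

The characteristic two version of the checker of `Model`: vectors are bit strings, combinations are exclusive
disjunctions.

Owner: helper15.
-/

set_option autoImplicit false

namespace Cfsg.Agent.Lib.SolvCent15

/-- The `m` lowest bits. -/
def bits : ℕ → ℕ → List ℕ
  | 0, _ => []
  | m + 1, x => (x % 2) :: bits m (x / 2)

/-- `Σ xᵢ tᵢ` for a bit string `x`; written with the recursor for fast evaluation. -/
noncomputable def lcX (tbl : List ℕ) : ℕ → ℕ :=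
  List.rec (fun _ => 0) (fun t _ ih x => Nat.xor (Nat.mul (Nat.mod x 2) t) (ih (Nat.div x 2))) tbl

/-- The unit strings of positions `s, …, s + d - 1`. -/
def units (s d : ℕ) : List ℕ := (List.range d).map fun k => 2 ^ (s + k)

/-- Image of a bit string under a letter. -/
noncomputable def Model.appX (M : Model) (g x : ℕ) : Option ℕ := (M.row g).map fun R => lcX R x

/-- Image of a bit string under a word. -/
noncomputable def Model.appWX (M : Model) : List ℕ → ℕ → Option ℕ
  | [], x => some x
  | g :: w, x => (M.appWX w x).bind fun y => M.appX g y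

/-- The row of a new letter. -/
noncomputable def indRowX (M : Model) (N : ℕ) (t : List (ℕ × List ℕ)) : List ℕ :=
  (List.range (N * M.m)).map fun i =>
    lcX (units ((t.getD (i / M.m) (0, [])).1 * M.m) M.m)
      ((M.appWX (t.getD (i / M.m) (0, [])).2 (2 ^ (i % M.m))).getD 0)

/-- The induced model. -/
noncomputable def indModelX (M : Model) (C : IndCert) : Model :=
  ⟨C.reps.length * M.m, C.gens.map fun e => (e.1, indRowX M C.reps.length e.2)⟩

/-- The conditions on an induction step. -/
noncomputable def indOKX (n : ℕ) (cd : List (List ℕ)) (M : Model) (C : IndCert) : Bool :=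
  decide (0 < C.reps.length) && (C.reps.getD 0 [0] == []) &&
  C.gens.all fun e => (List.range C.reps.length).all fun c =>
    decide ((e.2.getD c (0, [])).1 < C.reps.length) &&
    (code n cd (e.1 :: C.reps.getD c []) ==
      code n cd (C.reps.getD (e.2.getD c (0, [])).1 [] ++ (e.2.getD c (0, [])).2)) &&
    (List.range M.m).all fun j => (M.appWX (e.2.getD c (0, [])).2 (2 ^ j)).isSome

/-- The vanishing vectors. -/
noncomputable def zerosX (M : Model) (rules : List (List (ℕ × ℕ))) : List Step → List ℕ → Option (List ℕ)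
  | [], Z => some Z
  | Step.fix r x :: ss, Z =>
    if decide (r < rules.length) &&
        (rules.getD r []).all (fun q => (q.2 == 1) && (M.appX q.1 x == some x)) then
      zerosX M rules ss (Z ++ [x])
    else none
  | Step.mul g j :: ss, Z =>
    if j < Z.length then
      match M.appX g (Z.getD j 0) with
      | some y => zerosX M rules ss (Z ++ [y])
      | none => none
    else none

/-- The reduced model. -/
noncomputable def redModelX (M : Model) (C : RedCert) : Model :=
  ⟨C.keep.length, M.rows.map fun e => (e.1, C.keep.map fun i => lcX C.img (e.2.getD i 0))⟩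

/-- The conditions on a reduction step. -/
noncomputable def redOKX (M : Model) (rules : List (List (ℕ × ℕ))) (C : RedCert) : Bool :=
  match zerosX M rules C.steps [] with
  | none => false
  | some Z =>
    (C.img.length == M.m) && C.keep.all (fun i => decide (i < M.m)) &&
    (List.range M.m).all fun i =>
      lcX Z (C.coef.getD i 0) == Nat.xor (2 ^ i) (lcX (C.keep.map (2 ^ ·)) (C.img.getD i 0))

theorem bits_length : ∀ m x : ℕ, (bits m x).length = m
  | 0, _ => rfl
  | m + 1, x => by simp [bits, bits_length m]

theorem bits_zero : ∀ m : ℕ, bits m 0 = List.replicate m 0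
  | 0 => rfl
  | m + 1 => by simp [bits, bits_zero m, List.replicate_succ]

section Soundness
variable {V : Type*} [AddCommMonoid V]

/-- The value of a bit string. -/
def valX (m : ℕ) (b : ℕ → V) (x : ℕ) : V := ev b (bits m x)

theorem valX_zero (m : ℕ) (b : ℕ → V) : valX m b 0 = 0 := by
  rw [valX, bits_zero, ev_replicate]

theorem valX_two_pow (b : ℕ → V) : ∀ (m i : ℕ), i < m → valX m b (2 ^ i) = b i
  | 0, i, h => absurd h (Nat.not_lt_zero i)
  | m + 1, 0, _ => by
    rw [valX, bits, pow_zero, ev, Nat.one_mod, one_smul, Nat.div_eq_of_lt (by norm_num), bits_zero,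
      ev_replicate, add_zero]
  | m + 1, i + 1, h => by
    rw [valX, bits, pow_succ, Nat.mul_mod_left, Nat.mul_div_cancel _ (by norm_num), ev, zero_smul,
      zero_add]
    exact valX_two_pow (fun i => b (i + 1)) m i (by omega)

variable (hV : ∀ v : V, 2 • v = 0)
include hV

theorem valX_xor : ∀ (m : ℕ) (b : ℕ → V) (x y : ℕ),
    valX m b (Nat.xor x y) = valX m b x + valX m b y
  | 0, b, x, y => by simp [valX, bits, ev]
  | m + 1, b, x, y => by
    have h1 : Nat.xor x y % 2 = (x % 2 + y % 2) % 2 := by
      show (x ^^^ y) % 2 = _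
      rw [← Nat.and_one_is_mod, Nat.and_xor_distrib_right, Nat.and_one_is_mod, Nat.and_one_is_mod]
      rcases Nat.mod_two_eq_zero_or_one x with h | h <;>
        rcases Nat.mod_two_eq_zero_or_one y with h' | h' <;> simp [h, h']
    have h2 : Nat.xor x y / 2 = Nat.xor (x / 2) (y / 2) := by
      show (x ^^^ y) / 2 = (x / 2) ^^^ (y / 2)
      exact Nat.xor_div_two
    simp only [valX, bits, ev, h1, h2, mod_smul hV, add_smul]
    have h3 := valX_xor m (fun i => b (i + 1)) (x / 2) (y / 2)
    simp only [valX] at h3
    rw [h3]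
    exact add_add_add_comm _ _ _ _

theorem lcX_val (m : ℕ) (b : ℕ → V) : ∀ (tbl : List ℕ) (x : ℕ),
    valX m b (lcX tbl x) = ev (fun i => valX m b (tbl.getD i 0)) (bits tbl.length x)
  | [], x => valX_zero m b
  | t :: ts, x => by
    show valX m b (Nat.xor (Nat.mul (Nat.mod x 2) t) (lcX ts (Nat.div x 2))) = _
    rw [valX_xor hV, lcX_val m b ts, List.length_cons, bits, ev, List.getD_cons_zero]
    congr 1
    · show valX m b (x % 2 * t) = (x % 2) • valX m b t
      rcases Nat.mod_two_eq_zero_or_one x with h | h <;> simp [h, valX_zero]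

/-- The rows of `M` describe the action on `b`. -/
def HoldsX (ops : List (V →+ V)) (M : Model) (b : ℕ → V) : Prop :=
  ∀ e ∈ M.rows, e.2.length = M.m ∧ ∀ i < M.m, op ops e.1 (b i) = valX M.m b (e.2.getD i 0)

omit hV in
/-- `M` describes a family whose vanishing gives `v = 0`. -/
def DescribesX (ops : List (V →+ V)) (M : Model) (v : V) : Prop :=
  ∃ b : ℕ → V, HoldsX ops M b ∧ ((∀ i < M.m, b i = 0) → v = 0)

variable {n : ℕ} {cd : List (List ℕ)} {ops : List (V →+ V)}

theorem HoldsX.app {M : Model} {b : ℕ → V} (hM : HoldsX ops M b) {g x y : ℕ}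
    (hy : M.appX g x = some y) : valX M.m b y = op ops g (valX M.m b x) := by
  simp only [Model.appX, Option.map_eq_some_iff] at hy
  obtain ⟨R, hR, rfl⟩ := hy
  have hmem : (g, R) ∈ M.rows := by
    obtain ⟨l₁, l₂, h, -⟩ := List.lookup_eq_some_iff.1 hR
    rw [h]; simp
  obtain ⟨hlen, hval⟩ := hM _ hmem
  rw [lcX_val hV, show R.length = M.m from hlen, valX, ev_map]
  exact ev_congr fun i hi => (hval i (by rwa [bits_length] at hi)).symm

theorem HoldsX.appW {M : Model} {b : ℕ → V} (hM : HoldsX ops M b) : ∀ (w : List ℕ) {x y : ℕ},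
    M.appWX w x = some y → valX M.m b y = act ops w (valX M.m b x)
  | [], x, y, h => by
    simp only [Model.appWX, Option.some.injEq] at h
    subst h
    rfl
  | g :: w, x, y, h => by
    simp only [Model.appWX, Option.bind_eq_some_iff] at h
    obtain ⟨z, hz, hy⟩ := h
    rw [hM.app hV hy, HoldsX.appW hM w hz]
    rfl

omit hV in
/-- Start from a fixed vector. -/
theorem describesX_line {R : List (ℕ × ℕ)} {v : V} (hR : R.all (fun q => q.2 == 1) = true)
    (hv : ∀ q ∈ R, op ops q.1 v = q.2 • v) : DescribesX ops (lineModel R) v := by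
  refine ⟨fun _ => v, fun e he => ?_, fun h => h 0 (by simp [lineModel])⟩
  obtain ⟨q, hq, rfl⟩ := List.mem_map.1 he
  have hq2 : q.2 = 1 := by simpa using List.all_eq_true.1 hR q hq
  refine ⟨rfl, fun i hi => ?_⟩
  obtain rfl : i = 0 := by simp [lineModel] at hi; omega
  show op ops q.1 v = valX 1 (fun _ => v) q.2
  rw [valX, bits, bits, ev, ev, add_zero, hv q hq, hq2]

/-- The induction step. -/
theorem describesX_ind (hS : Sound n cd ops) {M : Model} {C : IndCert} {v : V}
    (hok : indOKX n cd M C = true) (hM : DescribesX ops M v) :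
    DescribesX ops (indModelX M C) v := by
  obtain ⟨b, hb, hb0⟩ := hM
  simp only [indOKX, Bool.and_eq_true, decide_eq_true_eq, beq_iff_eq, List.all_eq_true,
    List.mem_range] at hok
  obtain ⟨⟨hN, hrep0⟩, hg⟩ := hok
  set d := M.m
  set N := C.reps.length
  let b' : ℕ → V := fun i => act ops (C.reps.getD (i / d) []) (b (i % d))
  refine ⟨b', fun e' he' => ?_, fun h => hb0 fun j hj => ?_⟩
  · obtain ⟨e, he, rfl⟩ := List.mem_map.1 he'
    refine ⟨by simp [indModelX, indRowX], fun i hi' => ?_⟩
    have hi : i < N * d := hi'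
    have hd : 0 < d := Nat.pos_of_ne_zero fun h => by rw [h, Nat.mul_zero] at hi; omega
    have hc : i / d < N := (Nat.div_lt_iff_lt_mul hd).2 hi
    have hj : i % d < d := Nat.mod_lt _ hd
    obtain ⟨⟨hl, hcode⟩, hsome⟩ := hg e he (i / d) hc
    obtain ⟨y, hy⟩ := Option.isSome_iff_exists.1 (hsome _ hj)
    have hyv := hb.appW hV _ hy
    show _ = valX (N * d) b' ((indRowX M N e.2).getD i 0)
    rw [show (indRowX M N e.2).getD i 0 = lcX (units ((e.2.getD (i / d) (0, [])).1 * d) d)
      ((M.appWX (e.2.getD (i / d) (0, [])).2 (2 ^ (i % d))).getD 0) by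
        simp [indRowX, d, N, List.getD_eq_getElem?_getD, List.getElem?_range hi]]
    rw [hy, Option.getD_some]
    generalize (e.2.getD (i / d) (0, [])).1 = l at hl hcode ⊢
    have e1 : valX (N * d) b' (lcX (units (l * d) d) y) =
        act ops (C.reps.getD l []) (valX d b y) := by
      rw [lcX_val hV, valX, ev_map, show (units (l * d) d).length = d by simp [units]]
      refine ev_congr fun k hk => ?_
      rw [bits_length] at hk
      have hle : l * d + k < N * d := by
        calc l * d + k < (l + 1) * d := by rw [Nat.add_mul, Nat.one_mul]; omega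
          _ ≤ N * d := Nat.mul_le_mul_right d hl
      rw [show (units (l * d) d).getD k 0 = 2 ^ (l * d + k) by
        simp [units, List.getD_eq_getElem?_getD, List.getElem?_range hk], valX_two_pow _ _ _ hle]
      show act ops (C.reps.getD ((l * d + k) / d) []) (b ((l * d + k) % d)) = _
      rw [Nat.mul_add_mod_self_right, Nat.mod_eq_of_lt hk, Nat.add_comm,
        Nat.add_mul_div_right _ _ hd, Nat.div_eq_of_lt hk, Nat.zero_add]
    rw [e1, hyv, valX_two_pow b d _ hj, ← act_append, ← hS _ _ hcode]
    rfl
  · have h1 := h j (by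
      show j < N * d
      calc j < 1 * d := by rwa [Nat.one_mul]
        _ ≤ N * d := Nat.mul_le_mul_right d hN)
    have hget : C.reps.getD 0 [] = [] := by
      rw [List.getD_eq_getElem _ _ hN] at hrep0 ⊢
      exact hrep0
    simp only [b', Nat.div_eq_of_lt hj, Nat.mod_eq_of_lt hj, hget] at h1
    exact h1

theorem zerosX_val {M : Model} {b : ℕ → V} (hM : HoldsX ops M b)
    {rules : List (List (ℕ × ℕ))} (hK : ∀ R ∈ rules, Kills ops R) :
    ∀ (ss : List Step) (Z Z' : List ℕ), zerosX M rules ss Z = some Z' →
      (∀ z ∈ Z, valX M.m b z = 0) → ∀ z ∈ Z', valX M.m b z = 0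
  | [], Z, Z', h, hZ => by
    simp only [zerosX, Option.some.injEq] at h
    exact h ▸ hZ
  | Step.fix r x :: ss, Z, Z', h, hZ => by
    simp only [zerosX] at h
    split at h
    · rename_i hc
      simp only [Bool.and_eq_true, decide_eq_true_eq, List.all_eq_true, beq_iff_eq] at hc
      obtain ⟨hr, hq⟩ := hc
      refine zerosX_val hM hK ss _ Z' h fun z hz => ?_
      rcases List.mem_append.1 hz with hz | hz
      · exact hZ z hz
      obtain rfl := List.mem_singleton.1 hz
      refine hK _ (List.getElem_mem hr) _ fun q hq' => ?_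
      rw [List.getD_eq_getElem _ _ hr] at hq
      obtain ⟨h1, hap⟩ := hq q hq'
      rw [← hM.app hV hap, h1, one_smul]
    · exact absurd h (by simp)
  | Step.mul g j :: ss, Z, Z', h, hZ => by
    simp only [zerosX] at h
    split at h
    · rename_i hj
      split at h
      · rename_i y hy
        refine zerosX_val hM hK ss _ Z' h fun z hz => ?_
        rcases List.mem_append.1 hz with hz | hz
        · exact hZ z hz
        obtain rfl := List.mem_singleton.1 hz
        rw [hM.app hV hy, List.getD_eq_getElem _ _ hj, hZ _ (List.getElem_mem hj), map_zero]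
      · exact absurd h (by simp)
    · exact absurd h (by simp)

/-- The reduction step. -/
theorem describesX_red {M : Model} {rules : List (List (ℕ × ℕ))} {C : RedCert} {v : V}
    (hK : ∀ R ∈ rules, Kills ops R) (hok : redOKX M rules C = true) (hM : DescribesX ops M v) :
    DescribesX ops (redModelX M C) v := by
  obtain ⟨b, hb, hb0⟩ := hM
  simp only [redOKX] at hok
  split at hok
  · exact absurd hok (by simp)
  rename_i Z hZ
  simp only [Bool.and_eq_true, decide_eq_true_eq, beq_iff_eq, List.all_eq_true,
    List.mem_range] at hok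
  obtain ⟨⟨himg, hkeep⟩, hrel⟩ := hok
  have hZ0 := zerosX_val hV hb hK C.steps [] Z hZ (by simp)
  set m' := C.keep.length
  let b' : ℕ → V := fun k => b (C.keep.getD k 0)
  have hb' : ∀ i < M.m, b i = valX m' b' (C.img.getD i 0) := by
    intro i hi
    have h0 := congrArg (valX M.m b) (hrel i hi)
    rw [lcX_val hV, valX_xor hV, valX_two_pow b M.m i hi, lcX_val hV, List.length_map,
      ev_eq_zero (b := fun i => valX M.m b (Z.getD i 0)) fun k hk' => by
        rw [bits_length] at hk'
        rw [List.getD_eq_getElem _ _ hk']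
        exact hZ0 _ (List.getElem_mem _)] at h0
    rw [ev_congr (b' := b') fun k hk' => by
      rw [bits_length] at hk'
      rw [List.getD_eq_getElem _ _ (by simpa using hk'), List.getElem_map,
        valX_two_pow b M.m _ (hkeep _ (List.getElem_mem _))]
      simp only [b', List.getD_eq_getElem _ _ hk']] at h0
    generalize hy : valX m' b' (C.img.getD i 0) = y
    rw [valX] at hy
    rw [hy] at h0
    calc b i = b i + 2 • y := by rw [hV, add_zero]
      _ = (b i + y) + y := by rw [two_nsmul, add_assoc]
      _ = y := by rw [← h0, zero_add]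
  refine ⟨b', fun e' he' => ?_, fun h => hb0 fun i hi => ?_⟩
  · obtain ⟨e, he, rfl⟩ := List.mem_map.1 he'
    obtain ⟨hlen, hop⟩ := hb e he
    refine ⟨by simp [m', redModelX], fun k hk => ?_⟩
    show op ops e.1 (b' k) = valX m' b' _
    have hk' : k < C.keep.length := hk
    simp only [b', List.getD_eq_getElem _ _ hk']
    rw [List.getD_eq_getElem _ _ (by simpa using hk'), List.getElem_map,
      hop _ (hkeep _ (List.getElem_mem hk')), lcX_val hV m' b', himg, valX]
    exact ev_congr fun j hj => hb' j (by rwa [bits_length] at hj)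
  · rw [hb' i hi, valX]
    exact ev_eq_zero fun k hk => h k (by rwa [bits_length] at hk)

omit hV in
/-- An empty family. -/
theorem DescribesX.eq_zero {M : Model} {v : V} (h : DescribesX ops M v) (hm : M.m = 0) : v = 0 := by
  obtain ⟨b, -, h0⟩ := h
  exact h0 fun i hi => absurd hi (by omega)

end Soundness

end Cfsg.Agent.Lib.SolvCent15
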