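import Cfsg.Agent.Lib.SolvCent15.Model

/-!
# Letters

Generated certificate data; owner helper15.
-/

set_option autoImplicit false
set_option maxRecDepth 20000
set_option Elab.async false

namespace Cfsg.Agent.Lib.SolvCent15

/-- Image lists of the letters, `p = 2`. -/
def codes2 : List (List ℕ) := [
  [1, 0, 3, 2, 4, 5, 6, 7, 8],
  [2, 3, 0, 1, 4, 5, 6, 7, 8],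
  [0, 1, 2, 3, 5, 4, 7, 6, 8],
  [0, 1, 2, 3, 6, 7, 4, 5, 8],
  [1, 0, 2, 3, 5, 4, 6, 7, 8],
  [4, 5, 6, 7, 0, 1, 2, 3, 8],
  [1, 2, 0, 3, 4, 5, 6, 7, 8],
  [1, 2, 3, 4, 0, 5, 6, 7, 8],
  [5, 4, 2, 3, 1, 0, 6, 7, 8],
  [1, 2, 3, 4, 5, 6, 0, 7, 8],
  [1, 0, 4, 3, 2, 5, 6, 7, 8],
  [2, 0, 3, 4, 5, 6, 1, 7, 8],
  [7, 6, 3, 2, 5, 4, 1, 0, 8],
  [6, 7, 3, 2, 5, 4, 0, 1, 8],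
  [1, 0, 3, 2, 5, 4, 7, 6, 8],
  [8, 1, 5, 6, 7, 2, 3, 4, 0],
  [0, 2, 4, 6, 3, 1, 7, 5, 8],
  [0, 8, 5, 6, 7, 2, 3, 4, 1],
  [2, 1, 4, 6, 3, 0, 7, 5, 8]]

/-- Image lists of the letters, `p = 5`. -/
def codes5 : List (List ℕ) := [
  [1, 2, 0, 3, 4, 5, 6, 7, 8, 9],
  [1, 2, 3, 4, 0, 5, 6, 7, 8, 9],
  [0, 1, 2, 3, 4, 6, 7, 5, 8, 9],
  [0, 1, 2, 3, 4, 6, 7, 8, 9, 5],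
  [5, 4, 2, 3, 1, 0, 6, 7, 8, 9],
  [9, 4, 2, 3, 1, 5, 6, 7, 8, 0],
  [0, 2, 3, 4, 9, 5, 6, 7, 8, 1],
  [1, 2, 0, 3, 4, 6, 7, 5, 8, 9],
  [1, 2, 3, 4, 0, 6, 7, 8, 9, 5],
  [1, 2, 0, 3, 4, 7, 5, 6, 8, 9],
  [1, 2, 3, 4, 0, 7, 5, 8, 9, 6],
  [1, 3, 2, 0, 4, 5, 6, 7, 8, 9],
  [0, 1, 2, 3, 4, 6, 8, 7, 5, 9],
  [0, 4, 3, 2, 1, 5, 6, 7, 8, 9],
  [0, 1, 2, 3, 4, 8, 7, 6, 5, 9],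
  [1, 4, 2, 3, 0, 5, 6, 7, 8, 9],
  [0, 1, 2, 3, 4, 6, 9, 7, 8, 5],
  [1, 9, 2, 3, 4, 5, 6, 7, 8, 0],
  [1, 5, 2, 3, 4, 0, 6, 7, 8, 9],
  [1, 6, 2, 3, 4, 5, 0, 7, 8, 9],
  [1, 7, 2, 3, 4, 5, 6, 0, 8, 9],
  [5, 6, 7, 8, 4, 0, 1, 2, 3, 9]]

end Cfsg.Agent.Lib.SolvCent15
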