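import Cfsg.Agent.Lib.SolvCent15.Model
import Cfsg.Agent.Lib.SolvCent15.Letters
/-!
# Certificate NegA

Generated certificate data; owner helper15.
-/

set_option autoImplicit false
set_option maxRecDepth 20000
set_option Elab.async false

namespace Cfsg.Agent.Lib.SolvCent15

/-- The starting eigen-conditions. -/
def negAStart : List (ℕ × ℕ) := [(1, 1), (13, 4), (2, 1), (12, 1), (14, 1)]

/-- The rules used. -/
def negARules : List (List (ℕ × ℕ)) :=
  [[(2, 1), (3, 1)], [(1, 1), (3, 1), (13, 4), (14, 4)]]

/-- Induction data. -/
noncomputable def negAI0 : IndCert where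
  reps := [[], [3], [3, 3], [14, 3], [3, 3, 3]]
  gens := [
    (3, [(1, []), (2, []), (4, []), (0, [14]), (3, [14])]),
    (1, [(0, [1]), (1, [1]), (2, [1]), (3, [1]), (4, [1])]),
    (13, [(0, [13]), (1, [13]), (2, [13]), (3, [13]), (4, [13])]),
    (14, [(0, [14]), (3, []), (4, [14]), (1, []), (2, [14])]),
    (2, [(0, [2]), (2, [2, 2, 12]), (4, [2, 2]), (3, [2, 2]), (1, [2, 12])]),
    (12, [(0, [12]), (2, [14, 2, 12]), (3, [12, 14]), (1, [2]), (4, [14, 2])])]

/-- Reduction data. -/
noncomputable def negAR0 : RedCert where
  w := 3
  keep := [1, 2, 3, 4]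
  steps := [
    .fix 0 0x1249]
  img := [0x924, 1, 8, 64, 512]
  coef := [1,
    0,
    0,
    0,
    0]

/-- The model reached. -/
noncomputable def negAM0 : Model :=
  ⟨4, [
    (3, [0x10000, 0x1000000000000, 0x4000400040004, 0x100000000]),
    (1, [1, 0x10000, 0x100000000, 0x1000000000000]),
    (13, [4, 0x40000, 0x400000000, 0x4000000000000]),
    (14, [0x100000000, 0x1000000000000, 1, 0x10000]),
    (2, [0x10000, 0x1000000000000, 0x100000000, 1]),
    (12, [0x10000, 0x100000000, 1, 0x1000000000000])]⟩

theorem negACheck0a :
    (indOK 5 10 codes5 (lineModel negAStart) negAI0) = true := by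
  decide +kernel

theorem negACheck0b :
    (redOK 5 (indModel 5 (lineModel negAStart) negAI0) negARules negAR0) = true := by
  decide +kernel

theorem negACheck0c :
    ((redModel 5 (indModel 5 (lineModel negAStart) negAI0) negAR0).same negAM0) = true := by
  decide +kernel

/-- Reduction data. -/
noncomputable def negAR1 : RedCert where
  w := 3
  keep := [3]
  steps := [
    .fix 1 738,
    .mul 2 0,
    .mul 12 0]
  img := [1, 1, 1, 1]
  coef := [193,
    80,
    35,
    0]

/-- The model reached. -/
noncomputable def negAM1 : Model :=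
  ⟨1, [
    (3, [1]),
    (1, [1]),
    (13, [4]),
    (14, [1]),
    (2, [1]),
    (12, [1])]⟩

theorem negACheck1b :
    (redOK 5 (negAM0) negARules negAR1) = true := by
  decide +kernel

theorem negACheck1c :
    ((redModel 5 (negAM0) negAR1).same negAM1) = true := by
  decide +kernel

/-- Reduction data. -/
noncomputable def negAR2 : RedCert where
  w := 3
  keep := []
  steps := [
    .fix 0 1]
  img := [0]
  coef := [1]

theorem negACheck2b :
    (redOK 5 (negAM1) negARules negAR2) = true := by
  decide +kernel

theorem negACheck2c :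
    (((redModel 5 (negAM1) negAR2).m == 0)) = true := by
  decide +kernel

theorem negAKills {V : Type*} [AddCommMonoid V] {ops : List (V →+ V)} (hV : ∀ v : V, 5 • v = 0)
    (hS : Sound 10 codes5 ops) (hK : ∀ R ∈ negARules, Kills ops R) : Kills ops negAStart := by
  intro v hv
  have h := describes_line (by decide) (by decide) hV (by decide) (by decide +kernel) hv
  have h := describes_red (by decide) (by decide) hV hK negACheck0b
    (describes_ind (by decide) (by decide) hV hS negACheck0a h)
  rw [Model.eq_of_same negACheck0c] at h
  have h := describes_red (by decide) (by decide) hV hK negACheck1b h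
  rw [Model.eq_of_same negACheck1c] at h
  have h := describes_red (by decide) (by decide) hV hK negACheck2b h
  exact h.eq_zero (beq_iff_eq.1 negACheck2c)

end Cfsg.Agent.Lib.SolvCent15
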