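import Mathlib.GroupTheory.SpecificGroups.Alternating
import Mathlib.GroupTheory.Solvable
import Cfsg.Agent.Lib.SolvCent15.Model

/-!
# From permutation codes to a group action

An action of an alternating group gives sound letters; lists of commutator identities show that the subgroup
generated by some letters is not solvable.

Owner: helper15.
-/

set_option autoImplicit false

open Equiv Equiv.Perm

namespace Cfsg.Agent.Lib.SolvCent15

variable {n : ℕ} [NeZero n]

/-- A pair of transpositions, as an even permutation. -/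
def qPerm (q : ℕ × ℕ × ℕ × ℕ) : alternatingGroup (Fin n) :=
  if h : Fin.ofNat n q.1 ≠ Fin.ofNat n q.2.1 ∧ Fin.ofNat n q.2.2.1 ≠ Fin.ofNat n q.2.2.2 then
    ⟨swap (Fin.ofNat n q.1) (Fin.ofNat n q.2.1) * swap (Fin.ofNat n q.2.2.1) (Fin.ofNat n q.2.2.2), by
      rw [mem_alternatingGroup, map_mul, sign_swap h.1, sign_swap h.2]; rfl⟩
  else 1

/-- The even permutations of a list of letters. -/
def letters (Q : List (List (ℕ × ℕ × ℕ × ℕ))) : List (alternatingGroup (Fin n)) :=
  Q.map fun qs => (qs.map qPerm).prod

/-- The product of a word. -/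
def wordProd (Ls : List (alternatingGroup (Fin n))) : List ℕ → alternatingGroup (Fin n)
  | [] => 1
  | g :: w => Ls.getD g 1 * wordProd Ls w

/-- The image list of an even permutation. -/
def imgs (σ : alternatingGroup (Fin n)) : List ℕ :=
  List.ofFn fun i => ((σ : Perm (Fin n)) i).val

theorem imgs_one : imgs (1 : alternatingGroup (Fin n)) = List.range n := by
  refine List.ext_getElem (by simp [imgs]) fun i h1 h2 => ?_
  simp [imgs]

theorem imgs_injective : Function.Injective (imgs (n := n)) := by
  intro σ τ h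
  refine Subtype.ext (Equiv.ext fun i => Fin.ext ?_)
  exact congrFun (List.ofFn_injective h) i

theorem wordProd_append (Ls : List (alternatingGroup (Fin n))) (w w' : List ℕ) :
    wordProd Ls (w ++ w') = wordProd Ls w * wordProd Ls w' := by
  induction w with
  | nil => rw [List.nil_append, wordProd, one_mul]
  | cons g w ih => rw [List.cons_append, wordProd, wordProd, ih, mul_assoc]

theorem code_eq (Ls : List (alternatingGroup (Fin n))) {cd : List (List ℕ)} (hcd : Ls.map imgs = cd) :
    ∀ w, code n cd w = imgs (wordProd Ls w)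
  | [] => by rw [code, wordProd, imgs_one]
  | g :: w => by
    rw [code, code_eq Ls hcd w, wordProd, ← hcd, ← imgs_one, List.getD_map]
    refine List.ext_getElem (by simp [imgs]) fun i h1 h2 => ?_
    simp [imgs, List.getD_eq_getElem?_getD]

theorem prod_eq_of_code (Ls : List (alternatingGroup (Fin n))) {cd : List (List ℕ)}
    (hcd : Ls.map imgs = cd) {w w' : List ℕ} (h : code n cd w = code n cd w') :
    wordProd Ls w = wordProd Ls w' :=
  imgs_injective (by rw [← code_eq Ls hcd, ← code_eq Ls hcd, h])

section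
variable {V : Type*} [AddCommMonoid V] (ρ : alternatingGroup (Fin n) →* AddMonoid.End V)

/-- The operators of the letters. -/
def opsOf (Ls : List (alternatingGroup (Fin n))) : List (V →+ V) := Ls.map fun σ => ρ σ

theorem op_opsOf (Ls : List (alternatingGroup (Fin n))) (g : ℕ) (v : V) :
    op (opsOf ρ Ls) g v = ρ (Ls.getD g 1) v := by
  have h1 : AddMonoidHom.id V = (ρ 1 : V →+ V) := by rw [map_one]; rfl
  rw [op, opsOf, h1]
  exact congrArg (fun f : V →+ V => f v) (List.getD_map (l := Ls) (n := g) (f := fun σ => ρ σ) 1)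

theorem act_opsOf (Ls : List (alternatingGroup (Fin n))) :
    ∀ (w : List ℕ) (v : V), act (opsOf ρ Ls) w v = ρ (wordProd Ls w) v
  | [], v => by rw [wordProd, map_one]; rfl
  | g :: w, v => by
    rw [act, AddMonoidHom.comp_apply, act_opsOf Ls w, op_opsOf, wordProd, map_mul]
    rfl

theorem sound_opsOf (Ls : List (alternatingGroup (Fin n))) {cd : List (List ℕ)}
    (hcd : Ls.map imgs = cd) : Sound n cd (opsOf ρ Ls) := by
  intro w w' h
  refine AddMonoidHom.ext fun v => ?_
  rw [act_opsOf, act_opsOf, prod_eq_of_code Ls hcd h]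

end

/-- The kernel check of a list of commutator identities. -/
def witOK (n : ℕ) (cd : List (List ℕ)) (W : List (ℕ × List ℕ × List ℕ × List ℕ × List ℕ)) : Bool :=
  W.any (fun e => !(code n cd [e.1] == List.range n)) &&
  W.all fun e =>
    (code n cd [e.1] == code n cd (e.2.1 ++ e.2.2.1 ++ e.2.2.2.1 ++ e.2.2.2.2)) &&
    (code n cd (e.2.1 ++ e.2.2.2.1) == List.range n) &&
    (code n cd (e.2.2.1 ++ e.2.2.2.2) == List.range n) &&
    (e.2.1 ++ e.2.2.1).all fun l => (W.map Prod.fst).contains l

theorem not_solvable_of_witOK (Ls : List (alternatingGroup (Fin n))) {cd : List (List ℕ)}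
    (hcd : Ls.map imgs = cd) {W : List (ℕ × List ℕ × List ℕ × List ℕ × List ℕ)}
    (hW : witOK n cd W = true) :
    ¬ Group.IsSolvable
      ↥(Subgroup.closure {σ | ∃ e ∈ W, σ = Ls.getD e.1 1} : Subgroup (alternatingGroup (Fin n))) := by
  simp only [witOK, Bool.and_eq_true, List.any_eq_true, List.all_eq_true, beq_iff_eq,
    Bool.not_eq_true', List.contains_eq_mem, decide_eq_true_eq] at hW
  obtain ⟨⟨e₀, he₀, hne⟩, hW⟩ := hW
  set S : Subgroup (alternatingGroup (Fin n)) := Subgroup.closure {σ | ∃ e ∈ W, σ = Ls.getD e.1 1}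
  have hgen : ∀ e ∈ W, Ls.getD e.1 1 ∈ S := fun e he => Subgroup.subset_closure ⟨e, he, rfl⟩
  have hword : ∀ w : List ℕ, (∀ l ∈ w, l ∈ W.map Prod.fst) → wordProd Ls w ∈ S := by
    intro w
    induction w with
    | nil => intro _; exact S.one_mem
    | cons g w ih =>
      intro h
      obtain ⟨e, he, hg⟩ := List.mem_map.1 (h g List.mem_cons_self)
      exact S.mul_mem (hg ▸ hgen e he) (ih fun l hl => h l (List.mem_cons_of_mem _ hl))
  have hnil : code n cd [] = List.range n := rfl
  have hcomm : S ≤ ⁅S, S⁆ := by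
    refine (Subgroup.closure_le _).2 ?_
    rintro σ ⟨e, he, rfl⟩
    obtain ⟨⟨⟨h1, h2⟩, h3⟩, h4⟩ := hW e he
    have e1 := prod_eq_of_code Ls hcd h1
    have e2 := prod_eq_of_code Ls hcd (h2.trans hnil.symm)
    have e3 := prod_eq_of_code Ls hcd (h3.trans hnil.symm)
    simp only [wordProd_append, wordProd, mul_one] at e1 e2 e3
    rw [SetLike.mem_coe, e1, eq_inv_of_mul_eq_one_right e2, eq_inv_of_mul_eq_one_right e3,
      ← commutatorElement_def]
    exact Subgroup.commutator_mem_commutator
      (hword _ fun l hl => h4 l (List.mem_append_left _ hl))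
      (hword _ fun l hl => h4 l (List.mem_append_right _ hl))
  haveI : Nontrivial S := by
    refine (Subgroup.nontrivial_iff_ne_bot S).2 fun h => ?_
    have h1 : Ls.getD e₀.1 1 = 1 := Subgroup.mem_bot.1 (h ▸ hgen e₀ he₀)
    refine absurd ?_ (by simpa using hne)
    rw [code_eq Ls hcd, wordProd, wordProd, h1, mul_one, imgs_one]
  intro hs
  have h1 : commutator S = ⊤ := by
    refine Subgroup.map_injective S.subtype_injective ?_
    rw [Subgroup.map_subtype_commutator, ← MonoidHom.range_eq_map, Subgroup.range_subtype]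
    exact le_antisymm (Subgroup.commutator_le.2 fun a ha b hb =>
      S.mul_mem (S.mul_mem (S.mul_mem ha hb) (S.inv_mem ha)) (S.inv_mem hb)) hcomm
  exact (IsSolvable.commutator_lt_top_of_nontrivial S).ne h1

end Cfsg.Agent.Lib.SolvCent15
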