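import Cfsg.Agent.Lib.SolvCent15.Model
import Cfsg.Agent.Lib.SolvCent15.Letters
/-!
# Permutations and commutator witnesses

Generated certificate data; owner helper15.
-/

set_option autoImplicit false
set_option maxRecDepth 20000
set_option Elab.async false

namespace Cfsg.Agent.Lib.SolvCent15

/-- The letters as products of pairs of transpositions. -/
def quads2 : List (List (ℕ × ℕ × ℕ × ℕ)) := [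
  [(0, 1, 2, 3)],
  [(0, 2, 1, 3)],
  [(4, 5, 6, 7)],
  [(4, 6, 5, 7)],
  [(0, 1, 4, 5)],
  [(0, 4, 1, 5), (2, 6, 3, 7)],
  [(0, 1, 1, 2)],
  [(0, 1, 1, 2), (2, 3, 3, 4)],
  [(0, 5, 1, 4)],
  [(0, 1, 1, 2), (2, 3, 3, 4), (4, 5, 5, 6)],
  [(0, 1, 2, 4)],
  [(0, 2, 2, 3), (3, 4, 4, 5), (5, 6, 6, 1)],
  [(0, 7, 1, 6), (2, 3, 4, 5)],
  [(0, 6, 1, 7), (2, 3, 4, 5)],
  [(0, 1, 2, 3), (4, 5, 6, 7)],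
  [(0, 8, 2, 5), (3, 6, 4, 7)],
  [(1, 2, 2, 4), (4, 3, 3, 6), (6, 7, 7, 5)],
  [(1, 8, 2, 5), (3, 6, 4, 7)],
  [(0, 2, 2, 4), (4, 3, 3, 6), (6, 7, 7, 5)]]

/-- Rules with nonsolvable subgroups: each letter is a commutator `u v u' v'` in the subgroup. -/
def wit2 : List (List (ℕ × List ℕ × List ℕ × List ℕ × List ℕ)) := [
  [(6, [6, 6], [7, 7, 6, 6, 7, 6, 7], [6], [7, 7, 6, 6, 7, 6, 7]), (7, [6], [6, 7, 6, 7], [6, 6], [7, 6, 7, 6, 6])],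
  [(7, [7, 7, 7], [8, 7, 7, 8, 7, 7, 7, 8], [7, 7], [8, 7, 7, 8, 7, 7, 7, 8]), (8, [7, 8, 7, 7, 7], [8, 7, 7, 7, 8, 7], [7, 7, 7, 8, 7, 8], [8, 7, 8, 7, 7, 7, 8])],
  [(9, [9, 9], [10, 9, 10, 9, 9, 9, 9, 10], [9, 9, 9, 9, 9], [10, 9, 9, 9, 9, 10, 9, 10, 9]), (10, [9, 10, 9, 9, 9, 9], [9, 10, 9, 9, 9, 9, 10], [9, 9, 9, 9, 10, 9, 10, 9, 10], [9, 9, 10, 9, 9, 9, 9, 10, 9])],
  [(11, [11, 11], [10, 11, 10, 11, 11, 11, 11, 10], [11, 11, 11, 11, 11], [10, 11, 11, 11, 11, 10, 11, 10, 11]), (10, [11, 10, 11, 11, 11, 11], [11, 10, 11, 11, 11, 11, 10], [11, 11, 11, 11, 10, 11, 10, 11, 10], [11, 11, 10, 11, 11, 11, 11, 10, 11])],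
  [(9, [9, 9], [12, 9, 9, 9, 9, 12, 9, 9, 12], [9, 9, 9, 9, 9], [9, 12, 9, 9, 12, 9, 9, 9, 9, 12]), (12, [9, 9, 12, 9, 9, 9, 9], [9, 12, 9, 9, 9, 12, 9, 9], [9, 9, 9, 12, 9, 9, 9, 9, 9], [9, 12, 9, 9, 9, 12, 9, 9])],
  [(11, [11, 11], [13, 11, 11, 11, 11, 13, 11, 11, 13], [11, 11, 11, 11, 11], [11, 13, 11, 11, 13, 11, 11, 11, 11, 13]), (13, [11, 11, 13, 11, 11, 11, 11], [11, 13, 11, 11, 11, 13, 11, 11], [11, 11, 11, 13, 11, 11, 11, 11, 11], [11, 13, 11, 11, 11, 13, 11, 11])],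
  [(14, [16], [16, 14, 16, 14], [15, 16, 15], [16, 16, 14, 16, 16, 16]), (15, [14, 16, 14], [14, 16, 16, 14, 15], [14, 15, 16, 15, 14], [16, 16, 16, 15, 14, 16]), (16, [15], [16, 16, 16], [15], [16, 16, 16, 16])],
  [(14, [18], [18, 14, 18, 14], [17, 18, 17], [18, 18, 14, 18, 18, 18]), (17, [14, 18, 14], [14, 18, 18, 14, 17], [14, 17, 18, 17, 14], [18, 18, 18, 17, 14, 18]), (18, [17], [18, 18, 18], [17], [18, 18, 18, 18])]]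

/-- The letters as products of pairs of transpositions. -/
def quads5 : List (List (ℕ × ℕ × ℕ × ℕ)) := [
  [(0, 1, 1, 2)],
  [(0, 1, 1, 2), (2, 3, 3, 4)],
  [(5, 6, 6, 7)],
  [(5, 6, 6, 7), (7, 8, 8, 9)],
  [(0, 5, 1, 4)],
  [(0, 9, 1, 4)],
  [(1, 2, 2, 3), (3, 4, 4, 9)],
  [(0, 1, 1, 2), (5, 6, 6, 7)],
  [(0, 1, 1, 2), (2, 3, 3, 4), (5, 6, 6, 7), (7, 8, 8, 9)],
  [(0, 1, 1, 2), (5, 7, 7, 6)],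
  [(0, 1, 1, 2), (2, 3, 3, 4), (5, 7, 7, 8), (8, 9, 9, 6)],
  [(0, 1, 1, 3)],
  [(5, 6, 6, 8)],
  [(1, 4, 2, 3)],
  [(5, 8, 6, 7)],
  [(0, 1, 1, 4)],
  [(5, 6, 6, 9)],
  [(0, 1, 1, 9)],
  [(0, 1, 1, 5)],
  [(0, 1, 1, 6)],
  [(0, 1, 1, 7)],
  [(0, 5, 1, 6), (2, 7, 3, 8)]]

/-- Rules with nonsolvable subgroups: each letter is a commutator `u v u' v'` in the subgroup. -/
def wit5 : List (List (ℕ × List ℕ × List ℕ × List ℕ × List ℕ)) := [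
  [(0, [0, 0], [1, 1, 0, 0, 1, 0, 1], [0], [1, 1, 0, 0, 1, 0, 1]), (1, [0], [0, 1, 0, 1], [0, 0], [1, 0, 1, 0, 0])],
  [(2, [2, 2], [3, 3, 2, 2, 3, 2, 3], [2], [3, 3, 2, 2, 3, 2, 3]), (3, [2], [2, 3, 2, 3], [2, 2], [3, 2, 3, 2, 2])],
  [(7, [7, 7], [8, 8, 7, 7, 8, 7, 8], [7], [8, 8, 7, 7, 8, 7, 8]), (8, [7], [7, 8, 7, 8], [7, 7], [8, 7, 8, 7, 7])],
  [(9, [9, 9], [10, 10, 9, 9, 10, 9, 10], [9], [10, 10, 9, 9, 10, 9, 10]), (10, [9], [9, 10, 9, 10], [9, 9], [10, 9, 10, 9, 9])],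
  [(1, [1, 1, 1], [4, 1, 1, 4, 1, 1, 1, 4], [1, 1], [4, 1, 1, 4, 1, 1, 1, 4]), (4, [1, 4, 1, 1, 1], [4, 1, 1, 1, 4, 1], [1, 1, 1, 4, 1, 4], [4, 1, 4, 1, 1, 1, 4])],
  [(1, [1, 1, 1], [5, 1, 1, 5, 1, 1, 1, 5], [1, 1], [5, 1, 1, 5, 1, 1, 1, 5]), (5, [1, 5, 1, 1, 1], [5, 1, 1, 1, 5, 1], [1, 1, 1, 5, 1, 5], [5, 1, 5, 1, 1, 1, 5])],
  [(6, [6, 6, 6], [5, 6, 6, 5, 6, 6, 6, 5], [6, 6], [5, 6, 6, 5, 6, 6, 6, 5]), (5, [6, 5, 6, 6, 6], [5, 6, 6, 6, 5, 6], [6, 6, 6, 5, 6, 5], [5, 6, 5, 6, 6, 6, 5])]]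

end Cfsg.Agent.Lib.SolvCent15
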