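import Mathlib.Tactic.Abel
import Mathlib.Algebra.Group.Submonoid.Operations
import Cfsg.Agent.Lib.SolvCent15.Perms
import Cfsg.Agent.Lib.SolvCent15.Witness
import Cfsg.Agent.Lib.SolvCent15.CertSame
import Cfsg.Agent.Lib.SolvCent15.CertNegA
import Cfsg.Agent.Lib.SolvCent15.CertPosA
import Cfsg.Agent.Lib.SolvCent15.CertPos
import Cfsg.Agent.Lib.SolvCent15.CertNeg
import Cfsg.Agent.Lib.SolvCent15.CertTwo

/-!
# Modules of alternating groups in characteristics two and five

Every nonzero `𝔽₂[A₉]`- and `𝔽₅[A₁₀]`-module has a nonzero vector fixed by a nonsolvable subgroup.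

Owner: helper15.
-/

set_option autoImplicit false

namespace Cfsg.Agent.Lib.SolvCent15

universe u

/-- A nonzero module in characteristic `p` has a nonzero vector with nonsolvable stabiliser. -/
def FixedVectorLemma (n p : ℕ) : Prop :=
  ∀ (V : Type u) [AddCommGroup V], (∀ v : V, p • v = 0) →
    ∀ ρ : alternatingGroup (Fin n) →* AddMonoid.End V,
      (∀ S : Subgroup (alternatingGroup (Fin n)), ¬ Group.IsSolvable ↥S →
        ∀ v : V, (∀ g ∈ S, ρ g v = v) → v = 0) →
      ∀ v : V, v = 0

/-- The rule of a witness list. -/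
def ruleOf (W : List (ℕ × List ℕ × List ℕ × List ℕ × List ℕ)) : List (ℕ × ℕ) := W.map fun e => (e.1, 1)

theorem kills_witnesses {n : ℕ} [NeZero n] {V : Type u} [AddCommGroup V]
    (ρ : alternatingGroup (Fin n) →* AddMonoid.End V)
    (Ls : List (alternatingGroup (Fin n))) {cd : List (List ℕ)} (hcd : Ls.map imgs = cd)
    (hK : ∀ S : Subgroup (alternatingGroup (Fin n)), ¬ Group.IsSolvable ↥S →
      ∀ v : V, (∀ g ∈ S, ρ g v = v) → v = 0)
    {Ws : List (List (ℕ × List ℕ × List ℕ × List ℕ × List ℕ))}
    (hW : Ws.all (witOK n cd) = true) : ∀ R ∈ Ws.map ruleOf, Kills (opsOf ρ Ls) R := by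
  intro R hR
  obtain ⟨W, hWm, rfl⟩ := List.mem_map.1 hR
  intro v hv
  refine hK _ (not_solvable_of_witOK Ls hcd (List.all_eq_true.1 hW W hWm)) v fun g hg => ?_
  induction hg using Subgroup.closure_induction with
  | mem x hx =>
    obtain ⟨e, he, rfl⟩ := hx
    have h := hv (e.1, 1) (List.mem_map.2 ⟨e, he, rfl⟩)
    rwa [op_opsOf, one_smul] at h
  | one => rw [map_one]; rfl
  | mul x y _ _ hx hy =>
    rw [map_mul]
    show ρ x (ρ y v) = v
    rw [hy, hx]
  | inv x _ hx =>
    have h : ρ x⁻¹ (ρ x v) = v := by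
      show (ρ x⁻¹ * ρ x) v = v
      rw [← map_mul, inv_mul_cancel, map_one]; rfl
    rwa [hx] at h

section
variable {V : Type u} [AddCommGroup V]

/-- A fixed point of an automorphism of order five in characteristic five. -/
theorem exists_fixed_five (hV : ∀ v : V, 5 • v = 0) (f : V →+ V)
    (hf : ∀ v, f (f (f (f (f v)))) = v) (P : V → Prop) (hP : ∀ v, P v → P (f v - v))
    {v : V} (hv : v ≠ 0) (hPv : P v) : ∃ w, w ≠ 0 ∧ P w ∧ f w = w := by
  have h5 : ∀ v : V, f (f (f (f (f v - v) - (f v - v)) - (f (f v - v) - (f v - v)))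
      - (f (f (f v - v) - (f v - v)) - (f (f v - v) - (f v - v)))) -
      (f (f (f (f v - v) - (f v - v)) - (f (f v - v) - (f v - v)))
      - (f (f (f v - v) - (f v - v)) - (f (f v - v) - (f v - v)))) = 0 := by
    intro v
    simp only [map_sub, hf]
    have e := hV (f (f (f v)) + f (f (f v)) - (f (f v) + f (f v)) + f v - f (f (f (f v))))
    rw [← e]
    abel
  by_contra hne
  have key : ∀ w, P w → f w - w = 0 → w = 0 := fun w hw h =>
    by_contra fun hw0 => hne ⟨w, hw0, hw, sub_eq_zero.1 h⟩
  have h4 := key _ (hP _ (hP _ (hP _ (hP v hPv)))) (h5 v)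
  have h3 := key _ (hP _ (hP _ (hP v hPv))) h4
  have h2 := key _ (hP _ (hP v hPv)) h3
  have h1 := key _ (hP v hPv) h2
  exact hv (key v hPv h1)

/-- An eigenvector of an involution in odd characteristic five. -/
theorem exists_eigen_five (hV : ∀ v : V, 5 • v = 0) (t : V →+ V) (ht : ∀ v, t (t v) = v)
    (P : V → Prop) (hP : ∀ v, P v → P (v + t v) ∧ P (v - t v))
    {v : V} (hv : v ≠ 0) (hPv : P v) : ∃ w, w ≠ 0 ∧ P w ∧ (t w = 1 • w ∨ t w = 4 • w) := by
  by_cases h : v + t v = 0
  · refine ⟨v, hv, hPv, Or.inr ?_⟩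
    rw [eq_neg_of_add_eq_zero_right h, eq_comm, eq_neg_iff_add_eq_zero, ← succ_nsmul, hV]
  · exact ⟨v + t v, h, (hP v hPv).1, Or.inl (by rw [map_add, ht, one_smul, add_comm])⟩

/-- A fixed point of an involution in characteristic two. -/
theorem exists_fixed_two (hV : ∀ v : V, 2 • v = 0) (t : V →+ V) (ht : ∀ v, t (t v) = v)
    (P : V → Prop) (hP : ∀ v, P v → P (v + t v))
    (h : ∃ v, v ≠ 0 ∧ P v) : ∃ w, w ≠ 0 ∧ P w ∧ t w = w := by
  obtain ⟨v, hv, hPv⟩ := h
  by_cases h0 : v + t v = 0
  · refine ⟨v, hv, hPv, ?_⟩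
    rw [eq_neg_of_add_eq_zero_right h0, neg_eq_iff_add_eq_zero, ← two_nsmul, hV]
  · exact ⟨v + t v, h0, hP v hPv, by rw [map_add, ht, add_comm]⟩

end

section
variable {V : Type u} [AddCommGroup V] {n : ℕ} {cd : List (List ℕ)} {ops : List (V →+ V)}

theorem Sound.act_eq (hS : Sound n cd ops) {w w' : List ℕ} (h : code n cd w = code n cd w') (v : V) :
    act ops w v = act ops w' v := by rw [hS w w' h]

theorem act_single (g : ℕ) (v : V) : act ops [g] v = op ops g v := rfl

/-- A word in letters fixing a vector fixes it. -/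
theorem act_fixed {v : V} : ∀ w : List ℕ, (∀ g ∈ w, op ops g v = v) → act ops w v = v
  | [], _ => rfl
  | g :: w, h => by
    show op ops g (act ops w v) = v
    rw [act_fixed w fun g' hg => h g' (List.mem_cons_of_mem _ hg), h g List.mem_cons_self]

/-- Transport of a fixed vector along a letter normalising the fixing word. -/
theorem fixed_apply (hS : Sound n cd ops) {g k : ℕ} {w : List ℕ}
    (h : code n cd [g, k] = code n cd (k :: w)) {v : V} (hv : ∀ g' ∈ w, op ops g' v = v) :
    op ops g (op ops k v) = op ops k v := by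
  have := hS.act_eq h v
  simp only [act, AddMonoidHom.comp_apply, AddMonoidHom.id_apply] at this
  rw [this, act_fixed w hv]

/-- The sub-family of fixed vectors of the first letters is stable. -/
theorem step_two (hS : Sound n cd ops) (hV : ∀ v : V, 2 • v = 0) (k : ℕ)
    (hk : code n cd [k, k] = code n cd []) (ws : List (ℕ × List ℕ))
    (hws : ∀ e ∈ ws, code n cd [e.1, k] = code n cd (k :: e.2) ∧ ∀ g ∈ e.2, g ∈ ws.map Prod.fst)
    (h : ∃ v : V, v ≠ 0 ∧ ∀ g ∈ ws.map Prod.fst, op ops g v = v) :
    ∃ v : V, v ≠ 0 ∧ ∀ g ∈ k :: ws.map Prod.fst, op ops g v = v := by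
  obtain ⟨v, hv, hP, ht⟩ := exists_fixed_two hV (op ops k) (fun v => hS.act_eq hk v)
    (fun v => ∀ g ∈ ws.map Prod.fst, op ops g v = v) (fun v hv g hg => by
      obtain ⟨e, he, rfl⟩ := List.mem_map.1 hg
      rw [map_add, hv _ hg, fixed_apply hS (hws e he).1 fun g' hg' => hv g' ((hws e he).2 g' hg')]) h
  exact ⟨v, hv, fun g hg => by
    rcases List.mem_cons.1 hg with rfl | hg
    · exact ht
    · exact hP g hg⟩

end

theorem letters2_imgs : (letters (n := 9) quads2).map imgs = codes2 := by decide +kernel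

theorem letters5_imgs : (letters (n := 10) quads5).map imgs = codes5 := by decide +kernel

/-- The characteristic two case. -/
theorem fixedVectorLemma_two : FixedVectorLemma.{u} 9 2 := by
  intro V _ hV ρ hK v
  by_contra hv
  have hS := sound_opsOf ρ _ letters2_imgs
  have hR : ∀ R ∈ twoRules, Kills (opsOf ρ (letters quads2)) R := by
    have h := kills_witnesses ρ _ letters2_imgs hK (Ws := wit2) (by decide +kernel)
    rwa [show wit2.map ruleOf = twoRules by decide +kernel] at h
  have h0 : ∃ w : V, w ≠ 0 ∧ ∀ g ∈ ([] : List (ℕ × List ℕ)).map Prod.fst,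
      op (opsOf ρ (letters quads2)) g w = w := ⟨v, hv, by simp⟩
  have h1 := step_two hS hV 0 (by decide +kernel) [] (by simp) h0
  have h2 := step_two hS hV 1 (by decide +kernel) [(0, [0])] (by decide +kernel) h1
  have h3 := step_two hS hV 2 (by decide +kernel) [(1, [1]), (0, [0])] (by decide +kernel) h2
  have h4 := step_two hS hV 3 (by decide +kernel) [(2, [2]), (1, [1]), (0, [0])] (by decide +kernel) h3
  have h5 := step_two hS hV 4 (by decide +kernel)
    [(3, [2, 3]), (2, [2]), (1, [0, 1]), (0, [0])] (by decide +kernel) h4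
  obtain ⟨w, hw, hfix⟩ := step_two hS hV 5 (by decide +kernel)
    [(4, [4]), (3, [1]), (2, [0]), (1, [3]), (0, [2])] (by decide +kernel) h5
  refine hw (twoKills hV hS hR w fun q hq => ?_)
  have hq' : q.2 = 1 ∧ q.1 ∈ 5 :: [(4, [4]), (3, [1]), (2, [0]), (1, [3]), (0, [2])].map Prod.fst := by
    revert q; decide +kernel
  rw [hq'.1, one_smul, hfix _ hq'.2]

/-- The characteristic five case. -/
theorem fixedVectorLemma_five : FixedVectorLemma.{u} 10 5 := by
  intro V _ hV ρ hK
  set ops := opsOf ρ (letters quads5) with hops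
  have hS : Sound 10 codes5 ops := sound_opsOf ρ _ letters5_imgs
  have hbase : ∀ R ∈ wit5.map ruleOf, Kills ops R :=
    kills_witnesses ρ _ letters5_imgs hK (by decide +kernel)
  have hsame : Kills ops sameStart := sameKills hV hS fun R hR => hbase R (by revert R; decide +kernel)
  have hnegA : Kills ops negAStart := by
    refine negAKills hV hS fun R hR => ?_
    have : R ∈ wit5.map ruleOf ∨ R = sameStart := by revert R; decide +kernel
    rcases this with h | rfl
    exacts [hbase R h, hsame]
  have hrB : Kills ops [(1, 1), (13, 4), (2, 1), (12, 1)] := by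
    intro v hv
    have h2 : op ops 2 v = v := by simpa using hv (2, 1) (by simp)
    have h12 : op ops 12 v = v := by simpa using hv (12, 1) (by simp)
    refine hnegA v fun q hq => ?_
    have : q ∈ [(1, 1), (13, 4), (2, 1), (12, 1)] ∨ q = (14, 1) := by revert q; decide +kernel
    rcases this with h | rfl
    · exact hv q h
    · have e := hS.act_eq (show code 10 codes5 [14] = code 10 codes5 [12, 2] by decide +kernel) v
      rw [act_fixed [12, 2] fun g hg => by
        have : g = 2 ∨ g = 12 := by revert g; decide +kernel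
        rcases this with rfl | rfl <;> assumption] at e
      simpa [act] using e
  have hposA : Kills ops posAStart := by
    refine posAKills hV hS fun R hR => ?_
    have : R ∈ wit5.map ruleOf ∨ R = [(1, 1), (13, 4), (2, 1), (12, 1)] := by revert R; decide +kernel
    rcases this with h | rfl
    exacts [hbase R h, hrB]
  have hx : ∀ v, op ops 1 (op ops 1 (op ops 1 (op ops 1 (op ops 1 v)))) = v := fun v =>
    hS.act_eq (show code 10 codes5 [1, 1, 1, 1, 1] = code 10 codes5 [] by decide +kernel) v
  have ht : ∀ v, op ops 13 (op ops 13 v) = v := fun v =>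
    hS.act_eq (show code 10 codes5 [13, 13] = code 10 codes5 [] by decide +kernel) v
  have hnorm : ∀ v, op ops 1 v = v → op ops 1 (op ops 13 v) = op ops 13 v := fun v hv =>
    fixed_apply hS (show code 10 codes5 [1, 13] = code 10 codes5 (13 :: [1, 1, 1, 1]) by decide +kernel)
      (by simp [hv])
  -- no nonzero vector is fixed by `A₄{5,6,7,8}`
  have hA4b : Kills ops [(2, 1), (12, 1)] := by
    intro v hv
    by_contra hv0
    let P : V → Prop := fun w => op ops 2 w = w ∧ op ops 12 w = w
    have hPv : P v := ⟨by simpa using hv (2, 1) (by simp), by simpa using hv (12, 1) (by simp)⟩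
    obtain ⟨w, hw0, hPw, hw1⟩ := exists_fixed_five hV (op ops 1) hx P (fun u hu => by
      constructor
      · rw [map_sub, hu.1, fixed_apply hS
          (show code 10 codes5 [2, 1] = code 10 codes5 (1 :: [2]) by decide +kernel) (by simp [hu.1])]
      · rw [map_sub, hu.2, fixed_apply hS
          (show code 10 codes5 [12, 1] = code 10 codes5 (1 :: [12]) by decide +kernel) (by simp [hu.2])])
      hv0 hPv
    obtain ⟨u, hu0, ⟨hu2, hu1⟩, hut⟩ := exists_eigen_five hV (op ops 13) ht
      (fun w => P w ∧ op ops 1 w = w) (fun z hz => by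
        have a2 := fixed_apply hS (v := z)
          (show code 10 codes5 [2, 13] = code 10 codes5 (13 :: [2]) by decide +kernel) (by simp [hz.1.1])
        have a12 := fixed_apply hS (v := z)
          (show code 10 codes5 [12, 13] = code 10 codes5 (13 :: [12]) by decide +kernel) (by simp [hz.1.2])
        refine ⟨⟨⟨?_, ?_⟩, ?_⟩, ⟨?_, ?_⟩, ?_⟩ <;>
          simp only [map_add, map_sub, hz.1.1, hz.1.2, hz.2, a2, a12, hnorm z hz.2])
      hw0 ⟨hPw, hw1⟩
    rcases hut with hut | hut
    · exact hu0 (hposA u fun q hq => by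
        have : q = (1, 1) ∨ q = (13, 1) ∨ q = (2, 1) ∨ q = (12, 1) := by revert q; decide +kernel
        rcases this with rfl | rfl | rfl | rfl <;> simp [hut, hu1, hu2.1, hu2.2])
    · exact hu0 (hrB u fun q hq => by
        have : q = (1, 1) ∨ q = (13, 4) ∨ q = (2, 1) ∨ q = (12, 1) := by revert q; decide +kernel
        rcases this with rfl | rfl | rfl | rfl <;> simp [hut, hu1, hu2.1, hu2.2])
  have hA4 : Kills ops [(0, 1), (11, 1)] := by
    intro v hv
    have h0 : op ops 0 v = v := by simpa using hv (0, 1) (by simp)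
    have h11 : op ops 11 v = v := by simpa using hv (11, 1) (by simp)
    have h := hA4b (op ops 21 v) fun q hq => by
      have : q = (2, 1) ∨ q = (12, 1) := by revert q; decide +kernel
      rcases this with rfl | rfl
      · rw [one_smul]
        exact fixed_apply hS (show code 10 codes5 [2, 21] = code 10 codes5 (21 :: [0]) by decide +kernel)
          (by simp [h0])
      · rw [one_smul]
        exact fixed_apply hS (show code 10 codes5 [12, 21] = code 10 codes5 (21 :: [11]) by decide +kernel)
          (by simp [h11])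
    have e : op ops 21 (op ops 21 v) = v :=
      hS.act_eq (show code 10 codes5 [21, 21] = code 10 codes5 [] by decide +kernel) v
    rw [← e, h, map_zero]
  have hD : ∀ R ∈ fivePosRules, Kills ops R := fun R hR => by
    have : R ∈ wit5.map ruleOf ∨ R = [(0, 1), (11, 1)] := by revert R; decide +kernel
    rcases this with h | rfl
    exacts [hbase R h, hA4]
  intro v
  by_contra hv
  obtain ⟨w, hw0, -, hw1⟩ := exists_fixed_five hV (op ops 1) hx (fun _ => True) (fun _ _ => trivial) hv trivial
  obtain ⟨u, hu0, hu1, hut⟩ := exists_eigen_five hV (op ops 13) ht (fun w => op ops 1 w = w)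
    (fun z hz => ⟨by rw [map_add, hz, hnorm z hz], by rw [map_sub, hz, hnorm z hz]⟩) hw0 hw1
  rcases hut with hut | hut
  · exact hu0 (fivePosKills hV hS hD u fun q hq => by
      have : q = (1, 1) ∨ q = (13, 1) := by revert q; decide +kernel
      rcases this with rfl | rfl <;> simp [hut, hu1])
  · exact hu0 (fiveNegKills hV hS (fun R hR => hD R hR) u fun q hq => by
      have : q = (1, 1) ∨ q = (13, 4) := by revert q; decide +kernel
      rcases this with rfl | rfl <;> simp [hut, hu1])

end Cfsg.Agent.Lib.SolvCent15
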