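import Mathlib.GroupTheory.Frattini
import Mathlib.GroupTheory.SchurZassenhaus
import Mathlib.GroupTheory.SpecificGroups.Alternating
import Mathlib.GroupTheory.Nilpotent
import Mathlib.GroupTheory.Sylow
import Cfsg.Prelude.Def_LocalEven
import Cfsg.Agent.Lib.Coprime.Glauberman
import Cfsg.Agent.Lib.SolvCent15.Module

/-!
# Solvable centralisers of noncentral `p`-elements and alternating sections

Owner: helper15.
-/

set_option autoImplicit false
set_option linter.style.haveILetI false

open Subgroup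
open scoped commutatorElement

namespace Cfsg.Agent.Lib.SolvCent15

universe u v

/-- All noncentral `p`-elements have solvable centralisers. -/
def SolvCentHyp (p : ℕ) (G : Type u) [Group G] : Prop :=
  ∀ x : G, x ∉ center G → (∃ k : ℕ, orderOf x = p ^ k) → Group.IsSolvable (centralizer ({x} : Set G))

theorem SolvCentHyp.of_injective {p : ℕ} {G : Type u} [Group G] {H : Type v} [Group H]
    (h : SolvCentHyp p G) (f : H →* G) (hf : Function.Injective f) : SolvCentHyp p H := by
  intro x hx hord
  have hfx : f x ∉ center G := fun hc => hx (mem_center_iff.2 fun y => hf (by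
    rw [map_mul, map_mul]; exact mem_center_iff.1 hc (f y)))
  haveI := h (f x) hfx (by rwa [orderOf_injective f hf])
  let g : centralizer ({x} : Set H) →* centralizer ({f x} : Set G) :=
    (f.comp (centralizer ({x} : Set H)).subtype).codRestrict _ fun y => mem_centralizer_singleton_iff.2 (by
      show f y * f x = f x * f y
      rw [← map_mul, ← map_mul, mem_centralizer_singleton_iff.1 y.2])
  exact Group.isSolvable_of_isSolvable_injective (f := g) fun a b e => Subtype.ext (hf (congrArg Subtype.val e))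

/-- A subgroup whose derived subgroup is solvable is solvable. -/
theorem solvable_of_derived {G : Type u} [Group G] (S : Subgroup G)
    [Group.IsSolvable ↥⁅S, S⁆] : Group.IsSolvable ↥S := by
  have h1 : ⁅S, S⁆ ≤ S := Subgroup.commutator_le.2 fun a ha b hb =>
    S.mul_mem (S.mul_mem (S.mul_mem ha hb) (S.inv_mem ha)) (S.inv_mem hb)
  refine Group.isSolvable_of_ker_le_range (Subgroup.inclusion h1) (Abelianization.of (G := S)) ?_
  rw [Abelianization.ker_of]
  intro x hx
  have h : (x : G) ∈ ⁅S, S⁆ := by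
    rw [← Subgroup.map_subtype_commutator]
    exact ⟨x, hx, rfl⟩
  exact ⟨⟨x, h⟩, rfl⟩

/-- Inside a subgroup covering `D.map φ`, a smallest such subgroup. -/
theorem exists_minimal_cover {H : Type u} [Group H] [Finite H] {A : Type v} [Group A]
    (φ : H →* A) (D : Subgroup H) :
    ∃ R ≤ D, R.map φ = D.map φ ∧ ∀ S ≤ R, S.map φ = D.map φ → S = R := by
  obtain ⟨R, ⟨hRD, hR⟩, hmin⟩ := Set.exists_min_image {R : Subgroup H | R ≤ D ∧ R.map φ = D.map φ}
    (fun R => Nat.card R) (Set.toFinite _) ⟨D, le_rfl, rfl⟩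
  exact ⟨R, hRD, hR, fun S hS hS' =>
    Subgroup.eq_of_le_of_card_ge hS (hmin S ⟨hS.trans hRD, hS'⟩)⟩

/-- The kernel of a minimal cover lies in the Frattini subgroup. -/
theorem ker_le_frattini {H : Type u} [Group H] {A : Type v} [Group A] (φ : H →* A)
    (hmin : ∀ S : Subgroup H, S.map φ = (⊤ : Subgroup H).map φ → S = ⊤) : φ.ker ≤ frattini H := by
  rw [frattini, Order.radical]
  refine le_iInf₂ fun M hM => ?_
  by_contra h
  have hlt : M < M ⊔ φ.ker := lt_of_le_of_ne le_sup_left fun e => h (e ▸ le_sup_right)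
  have htop := hM.2 _ hlt
  refine hM.1 (hmin M ?_)
  rw [← htop, Subgroup.map_sup, (Subgroup.map_eq_bot_iff _).2 le_rfl, sup_bot_eq]

variable {H : Type u} [Group H] [Finite H] {A : Type v} [Group A] {p : ℕ} [hp : Fact p.Prime]

/-- A subgroup moving `x` by central elements contributes its derived subgroup to the centraliser. -/
theorem not_solvable_centralizer (φ : H →* A) {x : H} {D : Subgroup H}
    (hD : ∀ y ∈ D, ⁅y, x⁆ ∈ center H) (hns : ¬ Group.IsSolvable ↥(D.map φ)) :
    ¬ Group.IsSolvable ↥(centralizer ({x} : Set H)) := by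
  intro hC
  let f : D →* center H :=
    { toFun := fun y => ⟨⁅(y : H), x⁆, hD y y.2⟩
      map_one' := Subtype.ext (commutatorElement_one_left x)
      map_mul' := fun a b => Subtype.ext (by
        show ⁅(a : H) * b, x⁆ = ⁅(a : H), x⁆ * ⁅(b : H), x⁆
        have hb := mem_center_iff.1 (hD b b.2) (a : H)
        calc ⁅(a : H) * b, x⁆ = (a : H) * ⁅(b : H), x⁆ * (a : H)⁻¹ * ⁅(a : H), x⁆ := by
              simp only [commutatorElement_def]; group
          _ = ⁅(b : H), x⁆ * ⁅(a : H), x⁆ := by rw [hb, mul_inv_cancel_right]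
          _ = ⁅(a : H), x⁆ * ⁅(b : H), x⁆ := (mem_center_iff.1 (hD b b.2) _).symm) }
  have hle : ⁅D, D⁆ ≤ centralizer ({x} : Set H) := Subgroup.commutator_le.2 fun a ha b hb => by
    have h : f ⁅(⟨a, ha⟩ : D), (⟨b, hb⟩ : D)⁆ = 1 := by
      rw [map_commutatorElement, commutatorElement_eq_one_iff_commute]
      exact Subtype.ext (mem_center_iff.1 (f ⟨b, hb⟩).2 _)
    have h' : ⁅⁅a, b⁆, x⁆ = 1 := congrArg Subtype.val h
    exact mem_centralizer_singleton_iff.2 (commutatorElement_eq_one_iff_mul_comm.1 h')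
  haveI : Group.IsSolvable ↥⁅D, D⁆ :=
    Group.isSolvable_of_isSolvable_injective (f := Subgroup.inclusion hle) (Subgroup.inclusion_injective hle)
  haveI : Group.IsSolvable ↥(⁅D.map φ, D.map φ⁆) := by
    rw [← Subgroup.map_commutator]
    exact Group.isSolvable_of_surjective (f := φ.subgroupMap _) (φ.subgroupMap_surjective _)
  exact hns (solvable_of_derived _)

/-- A lift with a normaliser covering the centraliser. -/
theorem exists_lift_normalizer (φ : H →* A) (hφ : Function.Surjective φ) {a : A}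
    (ha : orderOf a = p) :
    ∃ (x : H) (Q : Subgroup H), x ∈ Q ∧ IsPGroup p Q ∧ (∀ q ∈ Q, φ q ∈ zpowers a) ∧
      orderOf (φ x) = p ∧ φ x ∈ zpowers a ∧
      centralizer ({a} : Set A) ≤ (normalizer (Q : Set H)).map φ := by
  obtain ⟨y, hy⟩ := hφ a
  let L : Subgroup H := (zpowers a).comap φ
  obtain ⟨k, m, hm, hkm⟩ := Nat.exists_eq_pow_mul_and_not_dvd (orderOf_pos y).ne' p hp.out.ne_one
  have hxL : y ^ m ∈ L := by rw [Subgroup.mem_comap, map_pow, hy]; exact pow_mem (mem_zpowers a) m
  have hxp : IsPGroup p (zpowers (⟨y ^ m, hxL⟩ : L)) := by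
    refine IsPGroup.iff_orderOf.2 fun z => ?_
    have h1 : orderOf z ∣ p ^ k := by
      refine (orderOf_dvd_natCard z).trans ?_
      rw [Nat.card_zpowers, Subgroup.orderOf_mk]
      refine orderOf_dvd_of_pow_eq_one ?_
      rw [← pow_mul, mul_comm, ← hkm, pow_orderOf_eq_one]
    obtain ⟨i, -, hi⟩ := (Nat.dvd_prime_pow hp.out).1 h1
    exact ⟨i, hi⟩
  obtain ⟨S, hS⟩ := hxp.exists_le_sylow
  refine ⟨y ^ m, (S : Subgroup L).map L.subtype, ⟨⟨y ^ m, hxL⟩, hS (mem_zpowers _), rfl⟩,
    S.isPGroup'.map _, ?_, ?_, by simpa [L] using hxL, ?_⟩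
  · rintro q ⟨q', -, rfl⟩
    exact q'.2
  · rw [map_pow, hy]
    refine (Nat.Coprime.orderOf_pow ?_).trans ha
    rw [ha]; exact (hp.out.coprime_iff_not_dvd.2 hm)
  · intro c hc
    obtain ⟨h, rfl⟩ := hφ c
    let M : Subgroup H := (centralizer ({a} : Set A)).comap φ
    have hLM : L ≤ M := Subgroup.comap_mono (zpowers_le.2 (mem_centralizer_singleton_iff.2 rfl))
    haveI : (L.subgroupOf M).Normal := ⟨fun l hl g => by
      rw [Subgroup.mem_subgroupOf] at hl ⊢
      simp only [L, Subgroup.mem_comap, Subgroup.coe_mul, InvMemClass.coe_inv, map_mul, map_inv] at hl ⊢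
      obtain ⟨i, hi⟩ := mem_zpowers_iff.1 hl
      have hg : Commute (φ g) a := mem_centralizer_singleton_iff.1 g.2
      rw [← hi, (hg.zpow_right i).eq, mul_inv_cancel_right]
      exact zpow_mem (mem_zpowers a) i⟩
    let e : L ≃* L.subgroupOf M := (Subgroup.subgroupOfEquivOfLe hLM).symm
    let S' : Sylow p (L.subgroupOf M) := S.mapSurjective (f := e.toMonoidHom) e.surjective
    have htop := Sylow.normalizer_sup_eq_top S'
    have hmem : (⟨h, hc⟩ : M) ∈ (⊤ : Subgroup M) := trivial
    rw [← htop, Subgroup.mem_sup_of_normal_right] at hmem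
    obtain ⟨n, hn, l, hl, hnl⟩ := hmem
    have hQ : ((S' : Subgroup (L.subgroupOf M)).map (L.subgroupOf M).subtype).map M.subtype =
        (S : Subgroup L).map L.subtype := by
      rw [show (S' : Subgroup (L.subgroupOf M)) = (S : Subgroup L).map e.toMonoidHom from rfl,
        Subgroup.map_map, Subgroup.map_map]
      rfl
    have hn' : (n : H) ∈ normalizer (((S : Subgroup L).map L.subtype : Subgroup H) : Set H) := by
      rw [← hQ]
      exact Subgroup.le_normalizer_map M.subtype ⟨n, hn, rfl⟩
    have hxN : y ^ m ∈ normalizer (((S : Subgroup L).map L.subtype : Subgroup H) : Set H) :=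
      Subgroup.le_normalizer ⟨⟨y ^ m, hxL⟩, hS (mem_zpowers _), rfl⟩
    have hgen : φ (l : H) ∈ zpowers (φ (y ^ m)) := by
      have h1 : φ (y ^ m) ∈ zpowers a := hxL
      have h2 : Nat.card (zpowers (φ (y ^ m))) = Nat.card (zpowers a) := by
        rw [Nat.card_zpowers, Nat.card_zpowers, map_pow, hy]
        exact Nat.Coprime.orderOf_pow (ha.symm ▸ hp.out.coprime_iff_not_dvd.2 hm)
      haveI : Finite (zpowers a) := Nat.finite_of_card_ne_zero (by
        rw [Nat.card_zpowers, ha]; exact hp.out.ne_zero)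
      rw [Subgroup.eq_of_le_of_card_ge (zpowers_le.2 h1) h2.ge]
      exact hl
    refine (congrArg φ (congrArg Subtype.val hnl)) ▸ ?_
    rw [Subgroup.coe_mul, map_mul]
    refine mul_mem (mem_map_of_mem φ hn') ?_
    obtain ⟨i, hi⟩ := mem_zpowers_iff.1 hgen
    rw [← hi, ← map_zpow]
    exact mem_map_of_mem φ (zpow_mem hxN i)

omit [Finite H] in
theorem exists_orderOf_eq_pow {Q : Subgroup H} (hQ : IsPGroup p Q) {x : H} (hx : x ∈ Q) :
    ∃ k : ℕ, orderOf x = p ^ k := by
  obtain ⟨k, hk⟩ := IsPGroup.iff_orderOf.1 hQ ⟨x, hx⟩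
  exact ⟨k, by rw [← hk, Subgroup.orderOf_mk]⟩

theorem not_mem_center_of_image (φ : H →* A) (hφ : Function.Surjective φ) (hA : center A = ⊥)
    {x : H} (hx : φ x ≠ 1) : x ∉ center H := fun h => hx (by
  rw [← Subgroup.mem_bot, ← hA, mem_center_iff]
  intro a
  obtain ⟨y, rfl⟩ := hφ a
  rw [← map_mul, ← map_mul, mem_center_iff.1 h y])

/-- The coprime case. -/
theorem false_of_coprime (hH : SolvCentHyp p H) (φ : H →* A) (hφ : Function.Surjective φ)
    (hA : center A = ⊥) {a : A} (ha : orderOf a = p) {B : Subgroup A}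
    (hB : B ≤ centralizer ({a} : Set A)) (hBns : ¬ Group.IsSolvable ↥B)
    (hBp : ¬ p ∣ Nat.card B) : False := by
  obtain ⟨x, Q, hxQ, hQ, hQa, hxo, hxa, hN⟩ := exists_lift_normalizer φ hφ ha
  let D : Subgroup H := normalizer (Q : Set H) ⊓ B.comap φ
  have hDB : D.map φ = B := by
    refine le_antisymm ((Subgroup.map_mono inf_le_right).trans (Subgroup.map_comap_le _ _)) ?_
    intro b hb
    obtain ⟨n, hn, rfl⟩ := hN (hB hb)
    exact ⟨n, ⟨hn, hb⟩, rfl⟩
  obtain ⟨R, hRD, hR, hmin⟩ := exists_minimal_cover φ D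
  rw [hDB] at hR hmin
  let ψ : R →* A := φ.comp R.subtype
  have hfr : ψ.ker ≤ frattini R := ker_le_frattini ψ fun S hS => by
    have h1 : (S.map R.subtype).map φ = B := by
      rw [Subgroup.map_map, show φ.comp R.subtype = ψ from rfl, hS, ← MonoidHom.range_eq_map,
        MonoidHom.range_comp, Subgroup.range_subtype, hR]
    have h2 := hmin _ (Subgroup.map_subtype_le S) h1
    refine Subgroup.map_injective R.subtype_injective ?_
    rw [h2, ← MonoidHom.range_eq_map, Subgroup.range_subtype]
  -- `R` has order prime to `p`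
  have hRp : ¬ p ∣ Nat.card R := by
    intro hdvd
    let S : Sylow p R := default
    have hSk : (S : Subgroup R) ≤ ψ.ker := by
      intro s hs
      rw [MonoidHom.mem_ker]
      by_contra hne
      obtain ⟨k, hk⟩ := IsPGroup.iff_orderOf.1 S.isPGroup' ⟨s, hs⟩
      have hmem : ψ s ∈ B := hR ▸ mem_map_of_mem φ s.2
      have h1 : orderOf (ψ s) ∣ p ^ k := by
        rw [← hk, Subgroup.orderOf_mk]; exact orderOf_map_dvd ψ s
      have h2 : orderOf (ψ s) ∣ Nat.card B := by
        rw [← Subgroup.orderOf_mk (ψ s) hmem]; exact orderOf_dvd_natCard _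
      have h3 : (p ^ k).Coprime (Nat.card B) := Nat.Coprime.pow_left _ (hp.out.coprime_iff_not_dvd.2 hBp)
      exact hne (orderOf_eq_one_iff.1 (Nat.eq_one_of_dvd_coprimes h3 h1 h2))
    haveI : (S : Subgroup R).Normal := by
      haveI := frattini_nilpotent (G := R)
      let S' : Sylow p (frattini R) := S.subtype (hSk.trans hfr)
      have hnorm : (S' : Subgroup (frattini R)).Normal := inferInstance
      haveI : (S' : Subgroup (frattini R)).Characteristic := Sylow.characteristic_of_normal S' hnorm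
      have h : ((S' : Subgroup (frattini R)).map (frattini R).subtype).Normal := inferInstance
      rwa [Sylow.coe_subtype, Subgroup.subgroupOf_map_subtype,
        inf_of_le_left (hSk.trans hfr)] at h
    obtain ⟨C, hC⟩ := Subgroup.exists_right_complement'_of_coprime
      (N := (S : Subgroup R)) S.card_coprime_index
    have hCtop : C = ⊤ := frattini_nongenerating (by
      rw [eq_top_iff, ← hC.sup_eq_top, sup_comm]
      exact sup_le_sup le_rfl (hSk.trans hfr))
    have hS1 : (S : Subgroup R) = ⊥ := by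
      have := hC.disjoint
      rw [hCtop, disjoint_top] at this
      exact this
    exact hp.out.one_lt.ne' (Nat.dvd_one.1 (by
      have := S.card_eq_multiplicity
      rw [show Nat.card S = 1 by rw [hS1]; simp] at this
      have h1 := Nat.Prime.factorization_pos_of_dvd hp.out Nat.card_pos.ne' hdvd
      rw [this]
      exact dvd_pow_self p h1.ne'))
  -- a lift centralised by `R`
  let N : Subgroup H := Q ⊓ φ.ker
  have hRN : R ≤ normalizer (N : Set H) := by
    intro r hr
    rw [mem_normalizer_iff]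
    intro g
    have h1 := (mem_normalizer_iff.1 (hRD hr).1 g)
    simp only [N, Subgroup.mem_inf, MonoidHom.mem_ker, map_mul, map_inv, h1, conj_eq_one_iff]
  have hNp : IsPGroup p N := hQ.to_le inf_le_left
  haveI : Group.IsNilpotent N := hNp.isNilpotent
  have hcop : (Nat.card R).Coprime (Nat.card N) := by
    obtain ⟨k, hk⟩ := IsPGroup.iff_card.1 hNp
    rw [hk]
    exact Nat.Coprime.pow_right _ (hp.out.coprime_iff_not_dvd.2 hRp).symm
  obtain ⟨n, hn, hnx⟩ := Coprime.exists_fixed_mul hRN hcop (Or.inr inferInstance) (k := x) (by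
    intro r hr
    refine Subgroup.mem_inf.2 ⟨Q.mul_mem ((mem_normalizer_iff.1 (hRD hr).1 x).1 hxQ) (Q.inv_mem hxQ), ?_⟩
    have hb : Commute (φ r) a := mem_centralizer_singleton_iff.1 (hB (hR ▸ mem_map_of_mem φ hr))
    obtain ⟨i, hi⟩ := mem_zpowers_iff.1 hxa
    rw [MonoidHom.mem_ker, map_mul, map_mul, map_mul, map_inv, map_inv, ← hi, (hb.zpow_right i).eq,
      mul_inv_cancel_right, mul_inv_cancel])
  have hnx' : φ (n * x) ≠ 1 := by
    rw [map_mul, MonoidHom.mem_ker.1 hn.2, one_mul]
    intro h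
    rw [h, orderOf_one] at hxo
    exact hp.out.one_lt.ne hxo
  haveI := hH _ (not_mem_center_of_image φ hφ hA hnx')
    (exists_orderOf_eq_pow hQ (Q.mul_mem hn.1 hxQ))
  have hRC : R ≤ centralizer ({n * x} : Set H) := fun r hr =>
    mem_centralizer_singleton_iff.2 (mem_centralizer_iff.1 hnx r hr)
  haveI : Group.IsSolvable R :=
    Group.isSolvable_of_isSolvable_injective (f := Subgroup.inclusion hRC) (Subgroup.inclusion_injective hRC)
  apply hBns
  rw [← hR]
  exact Group.isSolvable_of_surjective (f := φ.subgroupMap R) (φ.subgroupMap_surjective R)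

/-- The case of a fixed vector lemma. -/
theorem false_of_module (hH : SolvCentHyp p H) (φ : H →* A) (hφ : Function.Surjective φ)
    (hA : center A = ⊥) (hfr : φ.ker ≤ frattini H) {a : A} (ha : orderOf a = p)
    {B : Subgroup A} (hB : B ≤ centralizer ({a} : Set A)) (hBns : ¬ Group.IsSolvable ↥B)
    (hmod : ∀ (V : Type u) [AddCommGroup V], (∀ v : V, p • v = 0) → ∀ ρ : A →* AddMonoid.End V,
      (∀ S : Subgroup A, ¬ Group.IsSolvable ↥S → ∀ v : V, (∀ g ∈ S, ρ g v = v) → v = 0) →
      ∀ v : V, v = 0) : False := by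
  set K := φ.ker with hKdef
  haveI hKn : Group.IsNilpotent K := by
    haveI := frattini_nilpotent (G := H)
    exact Group.nilpotent_of_mulEquiv (Subgroup.subgroupOfEquivOfLe hfr)
  let S : Sylow p K := default
  haveI : (S : Subgroup K).Normal := inferInstance
  haveI : (S : Subgroup K).Characteristic := Sylow.characteristic_of_normal S inferInstance
  set P : Subgroup H := (S : Subgroup K).map K.subtype with hPdef
  haveI hPn : P.Normal := inferInstanceAs ((S : Subgroup K).map K.subtype).Normal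
  have hPp : IsPGroup p P := S.isPGroup'.map _
  have hPK : P ≤ K := Subgroup.map_subtype_le _
  by_cases hPZ : P ≤ center H
  · obtain ⟨x, Q, hxQ, hQ, hQa, hxo, hxa, hN⟩ := exists_lift_normalizer φ hφ ha
    let D : Subgroup H := normalizer (Q : Set H) ⊓ B.comap φ
    have hDB : D.map φ = B := by
      refine le_antisymm ((Subgroup.map_mono inf_le_right).trans (Subgroup.map_comap_le _ _)) ?_
      intro b hb
      obtain ⟨n, hn, rfl⟩ := hN (hB hb)
      exact ⟨n, ⟨hn, hb⟩, rfl⟩
    have hx1 : φ x ≠ 1 := fun h => by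
      rw [h, orderOf_one] at hxo
      exact hp.out.one_lt.ne hxo
    refine not_solvable_centralizer φ (x := x) (D := D) (fun y hy => hPZ ?_) (by rwa [hDB])
      (hH x (not_mem_center_of_image φ hφ hA hx1) (exists_orderOf_eq_pow hQ hxQ))
    have hmQ : ⁅y, x⁆ ∈ Q := by
      rw [commutatorElement_def]
      exact Q.mul_mem ((mem_normalizer_iff.1 hy.1 x).1 hxQ) (Q.inv_mem hxQ)
    have hmK : ⁅y, x⁆ ∈ K := by
      rw [hKdef, MonoidHom.mem_ker, map_commutatorElement, commutatorElement_eq_one_iff_commute]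
      obtain ⟨i, hi⟩ := mem_zpowers_iff.1 hxa
      rw [← hi]
      exact (Commute.zpow_right (mem_centralizer_singleton_iff.1 (hB hy.2)) i)
    obtain ⟨k, hk⟩ := exists_orderOf_eq_pow hQ hmQ
    have hz : IsPGroup p (zpowers (⟨⁅y, x⁆, hmK⟩ : K)) :=
      IsPGroup.of_card (n := k) (by rw [Nat.card_zpowers, Subgroup.orderOf_mk, hk])
    obtain ⟨S2, hS2⟩ := hz.exists_le_sylow
    haveI := Sylow.unique_of_normal S (inferInstance : (S : Subgroup K).Normal)
    rw [Subsingleton.elim S2 S] at hS2
    exact ⟨_, hS2 (mem_zpowers _), rfl⟩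
  · set Z : Subgroup H := P ⊓ center H with hZdef
    obtain ⟨P₁, ⟨hP₁n, hZP₁, hP₁P⟩, hmin⟩ := Set.exists_min_image
      {N : Subgroup H | N.Normal ∧ Z < N ∧ N ≤ P} (fun N => Nat.card N) (Set.toFinite _)
      ⟨P, hPn, lt_of_le_of_ne inf_le_left fun h => hPZ (h ▸ inf_le_right), le_rfl⟩
    haveI := hP₁n
    have hZc : ∀ {z}, z ∈ Z → ∀ g : H, g * z = z * g := fun hz g => mem_center_iff.1 hz.2 g
    haveI hZn : Z.Normal := ⟨fun z hz g => by
      rw [hZc hz g, mul_inv_cancel_right]; exact hz⟩
    have hsmall : ∀ N : Subgroup H, N.Normal → Z ≤ N → N ≤ P₁ → N = Z ∨ N = P₁ := by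
      intro N hN hZN hNP
      by_cases h : Z = N
      · exact Or.inl h.symm
      · exact Or.inr (Subgroup.eq_of_le_of_card_ge hNP
          (hmin N ⟨hN, lt_of_le_of_ne hZN h, hNP.trans hP₁P⟩))
    -- `K` centralises `P₁` modulo `Z`
    have hcomm : ∀ u ∈ P₁, ∀ k ∈ K, ⁅u, k⁆ ∈ Z := by
      have hnorm : (⁅P₁, K⁆ ⊔ Z).Normal := Subgroup.sup_normal _ _
      rcases hsmall _ hnorm le_sup_right (sup_le (Subgroup.commutator_le_left _ _) hZP₁.le) with h | h
      · intro u hu k hk
        exact h ▸ Subgroup.mem_sup_left (Subgroup.commutator_mem_commutator hu hk)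
      · exfalso
        have key : ∀ i, P₁ ≤ K.lowerCentralSeries i ⊔ Z := by
          intro i
          induction i with
          | zero => exact (hP₁P.trans hPK).trans le_sup_left
          | succ i ih =>
            refine h.symm.le.trans (sup_le ?_ le_sup_right)
            refine Subgroup.commutator_le.2 fun u hu k hk => ?_
            obtain ⟨l, hl, z, hz, rfl⟩ := Subgroup.mem_sup_of_normal_right.1 (ih hu)
            have e : ⁅l * z, k⁆ = ⁅l, k⁆ := by
              calc ⁅l * z, k⁆ = l * (z * k) * z⁻¹ * l⁻¹ * k⁻¹ := by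
                    simp only [commutatorElement_def]; group
                _ = ⁅l, k⁆ := by rw [← hZc hz k, commutatorElement_def]; group
            refine Subgroup.mem_sup_left ?_
            rw [e]
            exact Subgroup.commutator_mem_commutator hl hk
        obtain ⟨c, hc⟩ := (Subgroup.isNilpotent_iff_lowerCentralSeries K).1 hKn
        have := key c
        rw [hc, bot_sup_eq] at this
        exact absurd this hZP₁.not_ge
    let W : Subgroup (H ⧸ Z) := P₁.map (QuotientGroup.mk' Z)
    haveI : W.Normal := Subgroup.Normal.map inferInstance _ (QuotientGroup.mk'_surjective Z)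
    have hWc : ∀ u ∈ P₁, ∀ k ∈ K,
        QuotientGroup.mk' Z u * QuotientGroup.mk' Z k = QuotientGroup.mk' Z k * QuotientGroup.mk' Z u := by
      intro u hu k hk
      rw [← commutatorElement_eq_one_iff_mul_comm, ← map_commutatorElement, QuotientGroup.mk'_apply,
        QuotientGroup.eq_one_iff]
      exact hcomm u hu k hk
    -- exponent `p`
    let T : Subgroup H :=
      { carrier := {u | u ∈ P₁ ∧ u ^ p ∈ Z}
        one_mem' := ⟨P₁.one_mem, by rw [one_pow]; exact Z.one_mem⟩
        mul_mem' := fun {u w} hu hw => ⟨P₁.mul_mem hu.1 hw.1, by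
          have hc : Commute (QuotientGroup.mk' Z u) (QuotientGroup.mk' Z w) :=
            hWc u hu.1 w (hPK (hP₁P hw.1))
          rw [← QuotientGroup.eq_one_iff, ← QuotientGroup.mk'_apply, map_pow, map_mul, hc.mul_pow,
            ← map_pow, ← map_pow, QuotientGroup.mk'_apply, QuotientGroup.mk'_apply,
            (QuotientGroup.eq_one_iff _).2 hu.2, (QuotientGroup.eq_one_iff _).2 hw.2, one_mul]⟩
        inv_mem' := fun {u} hu => ⟨P₁.inv_mem hu.1, by rw [inv_pow]; exact Z.inv_mem hu.2⟩ }
    have hTn : T.Normal := ⟨fun u hu g =>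
      ⟨hP₁n.conj_mem u hu.1 g, by rw [conj_pow]; exact hZn.conj_mem _ hu.2 g⟩⟩
    have hZT : Z ≤ T := fun z hz => ⟨hZP₁.le hz, Z.pow_mem hz p⟩
    have hexp : ∀ u ∈ P₁, u ^ p ∈ Z := by
      rcases hsmall T hTn hZT (fun u hu => hu.1) with h | h
      · exfalso
        have hall : ∀ k, ∀ u ∈ P₁, u ^ p ^ k ∈ Z → u ∈ Z := by
          intro k
          induction k with
          | zero => intro u _ hu'; simpa using hu'
          | succ k ih =>
            intro u hu hu'
            refine h.le ⟨hu, ih _ (P₁.pow_mem hu p) ?_⟩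
            rwa [← pow_mul, ← pow_succ']
        refine hZP₁.not_ge fun u hu => ?_
        obtain ⟨k, hk⟩ := exists_orderOf_eq_pow hPp (hP₁P hu)
        exact hall k u hu (by rw [← hk, pow_orderOf_eq_one]; exact Z.one_mem)
      · intro u hu
        exact (h.symm.le hu).2
    letI : CommGroup W :=
      { (inferInstance : Group W) with
        mul_comm := by
          rintro ⟨_, u, hu, rfl⟩ ⟨_, w, hw, rfl⟩
          exact Subtype.ext (hWc u hu w (hPK (hP₁P hw))) }
    let g₀ : H →* MulAut W := MulAut.conjNormal.comp (QuotientGroup.mk' Z)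
    let end₀ : MulAut W →* AddMonoid.End (Additive W) :=
      { toFun := fun f => MonoidHom.toAdditive f.toMonoidHom
        map_one' := rfl
        map_mul' := fun _ _ => rfl }
    have hker : φ.ker ≤ g₀.ker := by
      intro k hk
      rw [MonoidHom.mem_ker]
      refine MulEquiv.ext ?_
      rintro ⟨_, u, hu, rfl⟩
      refine Subtype.ext ?_
      show QuotientGroup.mk' Z k * QuotientGroup.mk' Z u * (QuotientGroup.mk' Z k)⁻¹ = _
      rw [← hWc u hu k hk, mul_inv_cancel_right]
      rfl
    let ρ : A →* AddMonoid.End (Additive W) := end₀.comp (φ.liftOfSurjective hφ ⟨g₀, hker⟩)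
    have hρ : ∀ h, ρ (φ h) = end₀ (g₀ h) := fun h =>
      congrArg end₀ (DFunLike.congr_fun (MonoidHom.liftOfRightInverse_comp φ _
        (Function.rightInverse_surjInv hφ) ⟨g₀, hker⟩) h)
    have hV : ∀ v : Additive W, p • v = 0 := by
      intro v
      obtain ⟨⟨_, u, hu, rfl⟩, rfl⟩ : ∃ w' : W, Additive.ofMul w' = v := ⟨v, rfl⟩
      refine Additive.toMul.injective (Subtype.ext ?_)
      show (QuotientGroup.mk' Z u) ^ p = 1
      rw [← map_pow, QuotientGroup.mk'_apply, QuotientGroup.eq_one_iff]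
      exact hexp u hu
    have hzero := hmod (Additive W) hV ρ (by
      intro S hS v hv
      obtain ⟨⟨_, u, hu, rfl⟩, rfl⟩ : ∃ w' : W, Additive.ofMul w' = v := ⟨v, rfl⟩
      by_contra hne
      have huZ : u ∉ Z := fun h => hne (Additive.toMul.injective (Subtype.ext
        (show QuotientGroup.mk' Z u = 1 from (QuotientGroup.eq_one_iff u).2 h)))
      refine not_solvable_centralizer φ (x := u) (D := S.comap φ) ?_
        (by rwa [Subgroup.map_comap_eq_self_of_surjective hφ])
        (hH u (fun hc => huZ ⟨hP₁P hu, hc⟩) (exists_orderOf_eq_pow hPp (hP₁P hu)))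
      intro y hy
      have h1 := hv (φ y) hy
      rw [hρ] at h1
      have h2 : QuotientGroup.mk' Z y * QuotientGroup.mk' Z u * (QuotientGroup.mk' Z y)⁻¹ =
          QuotientGroup.mk' Z u := congrArg (fun t : Additive W => ((Additive.toMul t : W) : H ⧸ Z)) h1
      refine (show ⁅y, u⁆ ∈ Z from ?_).2
      rw [← QuotientGroup.eq_one_iff, ← QuotientGroup.mk'_apply, map_commutatorElement,
        commutatorElement_def, h2, mul_inv_cancel])
    refine hZP₁.not_ge fun u hu => ?_
    have h := hzero (Additive.ofMul ⟨_, u, hu, rfl⟩)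
    exact (QuotientGroup.eq_one_iff u).1 (congrArg Subtype.val (congrArg Additive.toMul h))

end Cfsg.Agent.Lib.SolvCent15
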