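import Mathlib.GroupTheory.SpecificGroups.Alternating
import Mathlib.GroupTheory.Perm.Cycle.Type
import Mathlib.Logic.Equiv.Fin.Basic
import Mathlib.Tactic.NormNum.Prime
import Cfsg.Agent.Lib.SolvCent15.Group

/-!
# No large alternating section

Owner: helper15.
-/

set_option autoImplicit false
set_option linter.style.haveILetI false

open Equiv Equiv.Perm Subgroup

namespace Cfsg.Agent.Lib.SolvCent15

universe u

theorem alt_five_not_solvable : ¬ Group.IsSolvable (alternatingGroup (Fin 5)) := fun h =>
  Equiv.Perm.not_isSolvable_fin_5 (by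
    haveI := h
    refine Group.isSolvable_of_ker_le_range (alternatingGroup (Fin 5)).subtype
      (Equiv.Perm.sign : Perm (Fin 5) →* ℤˣ) ?_
    rw [Subgroup.range_subtype]
    exact le_rfl)

/-- The product of two alternating groups inside a larger one. -/
def sumEmb (e : ℕ) : alternatingGroup (Fin 5) × alternatingGroup (Fin e) →* alternatingGroup (Fin (5 + e)) where
  toFun q := ⟨finSumFinEquiv.permCongr (Equiv.sumCongr (q.1 : Perm (Fin 5)) (q.2 : Perm (Fin e))), by
    rw [mem_alternatingGroup, sign_permCongr, sign_sumCongr, mem_alternatingGroup.1 q.1.2,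
      mem_alternatingGroup.1 q.2.2, one_mul]⟩
  map_one' := Subtype.ext (Equiv.ext fun i => by
    obtain ⟨j, rfl⟩ := finSumFinEquiv.surjective i
    cases j <;> simp [Equiv.permCongr_apply])
  map_mul' q r := Subtype.ext (Equiv.ext fun i => by
    obtain ⟨j, rfl⟩ := finSumFinEquiv.surjective i
    cases j <;> simp [Equiv.permCongr_apply])

theorem sumEmb_injective (e : ℕ) : Function.Injective (sumEmb e) := by
  intro q r h
  have h1 : Equiv.sumCongr (q.1 : Perm (Fin 5)) (q.2 : Perm (Fin e)) =
      Equiv.sumCongr (r.1 : Perm (Fin 5)) (r.2 : Perm (Fin e)) :=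
    finSumFinEquiv.permCongr.injective (congrArg Subtype.val h)
  refine Prod.ext (Subtype.ext (Equiv.ext fun i => ?_)) (Subtype.ext (Equiv.ext fun i => ?_))
  · simpa using Equiv.congr_fun h1 (Sum.inl i)
  · simpa using Equiv.congr_fun h1 (Sum.inr i)

/-- The smaller alternating group inside a larger one. -/
def altEmb {k n : ℕ} (h : k ≤ n) : alternatingGroup (Fin k) →* alternatingGroup (Fin n) :=
  ((Equiv.Perm.extendDomainHom
      (⟨fun i => ⟨⟨i.1, lt_of_lt_of_le i.2 h⟩, i.2⟩, fun i => ⟨i.1.1, i.2⟩, fun _ => rfl, fun _ => rfl⟩ :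
        Fin k ≃ {i : Fin n // i.1 < k})).comp (alternatingGroup (Fin k)).subtype).codRestrict
    (alternatingGroup (Fin n)) fun σ => by
      rw [mem_alternatingGroup]
      exact (sign_extendDomain _ _).trans (mem_alternatingGroup.1 σ.2)

theorem altEmb_injective {k n : ℕ} (h : k ≤ n) : Function.Injective (altEmb h) := fun σ τ e =>
  Subtype.ext (Equiv.Perm.extendDomainHom_injective _ (congrArg Subtype.val e))

/-- The commuting pair: an element of order `p` and an alternating group of degree five. -/
theorem exists_commuting_alt_five (p e : ℕ) [Fact p.Prime] (hpe : p ∣ Nat.card (alternatingGroup (Fin e))) :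
    ∃ (a : alternatingGroup (Fin (5 + e))) (B : Subgroup (alternatingGroup (Fin (5 + e)))),
      orderOf a = p ∧ B ≤ centralizer ({a} : Set _) ∧ ¬ Group.IsSolvable ↥B ∧ Nat.card B = 60 := by
  obtain ⟨a₀, ha₀⟩ := exists_prime_orderOf_dvd_card' p hpe
  let ι := (sumEmb e).comp (MonoidHom.inl (alternatingGroup (Fin 5)) (alternatingGroup (Fin e)))
  have hι : Function.Injective ι := fun a b h => (Prod.ext_iff.1 (sumEmb_injective e h)).1
  refine ⟨sumEmb e (1, a₀), ι.range, ?_, ?_, ?_, ?_⟩
  · rw [orderOf_injective _ (sumEmb_injective e), Prod.orderOf_mk, orderOf_one, Nat.lcm_one_left, ha₀]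
  · rintro _ ⟨b, rfl⟩
    rw [mem_centralizer_singleton_iff]
    show sumEmb e (b, 1) * sumEmb e (1, a₀) = sumEmb e (1, a₀) * sumEmb e (b, 1)
    rw [← map_mul, ← map_mul]
    exact congrArg _ (Prod.ext ((mul_one b).trans (one_mul b).symm) ((one_mul a₀).trans (mul_one a₀).symm))
  · intro hs
    exact alt_five_not_solvable
      (Group.isSolvable_of_isSolvable_injective (f := ι.rangeRestrict)
        ((MonoidHom.rangeRestrict_injective_iff).2 hι))
  · rw [← Nat.card_congr (MonoidHom.ofInjective hι).toEquiv, nat_card_alternatingGroup, Nat.card_fin]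
    rfl

/-- A fixed point lemma for the covered group, whatever the degree. -/
theorem false_of_surjective (p e : ℕ) [Fact p.Prime] (hp3 : p ≠ 3)
    (he : e = if p = 2 then 4 else p) {H : Type u} [Group H] [Finite H] (hH : SolvCentHyp p H)
    (φ : H →* alternatingGroup (Fin (5 + e))) (hφ : Function.Surjective φ) : False := by
  have hp : p.Prime := Fact.out
  have hpe : p ∣ Nat.card (alternatingGroup (Fin e)) := by
    by_cases h2 : p = 2
    · rw [if_pos h2] at he
      subst h2 he
      rw [nat_card_alternatingGroup, Nat.card_fin]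
      decide
    · rw [if_neg h2] at he
      subst he
      haveI : Nontrivial (Fin e) := Fin.nontrivial_iff_two_le.2 hp.two_le
      have h := two_mul_nat_card_alternatingGroup (α := Fin e)
      rw [Nat.card_perm, Nat.card_fin] at h
      exact (Nat.Coprime.dvd_of_dvd_mul_left
        ((hp.coprime_iff_not_dvd).2 fun hd => h2 ((Nat.prime_dvd_prime_iff_eq hp Nat.prime_two).1 hd))
        (h.symm ▸ Nat.dvd_factorial hp.pos le_rfl))
  obtain ⟨a, B, ha, hB, hBns, hBc⟩ := exists_commuting_alt_five p e hpe
  obtain ⟨R, -, hR, hmin⟩ := exists_minimal_cover φ ⊤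
  let ψ : R →* alternatingGroup (Fin (5 + e)) := φ.comp R.subtype
  have hψ : Function.Surjective ψ := by
    intro y
    obtain ⟨x, rfl⟩ := hφ y
    obtain ⟨r, hr, h⟩ : φ x ∈ R.map φ := hR ▸ mem_map_of_mem φ (mem_top x)
    exact ⟨⟨r, hr⟩, h⟩
  have hR' : SolvCentHyp p R := hH.of_injective R.subtype R.subtype_injective
  have hcen : center (alternatingGroup (Fin (5 + e))) = ⊥ :=
    alternatingGroup.center_eq_bot (by rw [Nat.card_fin]; omega)
  by_cases h7 : ¬ p ∣ 60
  · exact false_of_coprime hR' ψ hψ hcen ha hB hBns (hBc ▸ h7)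
  have hfr : ψ.ker ≤ frattini R := ker_le_frattini ψ fun S hS => by
    refine Subgroup.map_injective R.subtype_injective ?_
    rw [← MonoidHom.range_eq_map, Subgroup.range_subtype]
    refine hmin _ (Subgroup.map_subtype_le S) ?_
    rw [Subgroup.map_map, show φ.comp R.subtype = ψ from rfl, hS, ← MonoidHom.range_eq_map,
      MonoidHom.range_eq_top.2 hψ, ← MonoidHom.range_eq_map, MonoidHom.range_eq_top.2 hφ]
  have hp60 : p = 2 ∨ p = 5 := by
    have hd : p ∣ 2 * 2 * (3 * 5) := not_not.1 h7
    rcases (hp.dvd_mul).1 hd with h | h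
    · exact Or.inl ((Nat.prime_dvd_prime_iff_eq hp Nat.prime_two).1 ((hp.dvd_mul).1 h |>.elim id id))
    · rcases (hp.dvd_mul).1 h with h | h
      · exact absurd ((Nat.prime_dvd_prime_iff_eq hp Nat.prime_three).1 h) hp3
      · exact Or.inr ((Nat.prime_dvd_prime_iff_eq hp (by norm_num)).1 h)
  rcases hp60 with rfl | rfl
  · obtain rfl : e = 4 := by simpa using he
    exact false_of_module hR' ψ hψ hcen hfr ha hB hBns fixedVectorLemma_two
  · obtain rfl : e = 5 := by simpa using he
    exact false_of_module hR' ψ hψ hcen hfr ha hB hBns fixedVectorLemma_five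

/-- The bound on alternating sections. -/
theorem alternating_section_bound {G : Type u} [Group G] [Finite G] (p : ℕ) [Fact p.Prime]
    (hp3 : p ≠ 3) (h : SolvCentHyp p G) (d : ℕ)
    (hinv : Cfsg.Involves (alternatingGroup (Fin d)) G) :
    d ≤ p + 4 + (if p = 2 then 2 else 0) := by
  by_contra hlt
  have hle : 5 + (if p = 2 then 4 else p) ≤ d := by
    rcases eq_or_ne p 2 with rfl | h2
    · simp at hlt ⊢; omega
    · simp [h2] at hlt ⊢; omega
  generalize he : (if p = 2 then 4 else p) = e at hle
  obtain ⟨K, R, hn, ⟨f⟩⟩ := hinv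
  let q : K →* alternatingGroup (Fin d) := f.toMonoidHom.comp (QuotientGroup.mk' (R.subgroupOf K))
  have hq : Function.Surjective q := f.surjective.comp (QuotientGroup.mk'_surjective _)
  let ι := altEmb hle
  let H : Subgroup K := ι.range.comap q
  let φ : H →* alternatingGroup (Fin (5 + e)) :=
    ((MonoidHom.ofInjective (altEmb_injective hle)).symm.toMonoidHom).comp
      ((q.comp H.subtype).codRestrict ι.range fun x => x.2)
  have hφ : Function.Surjective φ := by
    intro y
    obtain ⟨x, hx⟩ := hq (ι y)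
    refine ⟨⟨x, ⟨y, hx.symm⟩⟩, ?_⟩
    apply (MonoidHom.ofInjective (altEmb_injective hle)).injective
    simp only [φ, MonoidHom.coe_comp, Function.comp_apply, MulEquiv.coe_toMonoidHom,
      MulEquiv.apply_symm_apply]
    exact Subtype.ext hx
  exact false_of_surjective p e hp3 he.symm
    (h.of_injective (K.subtype.comp H.subtype) (K.subtype_injective.comp H.subtype_injective)) φ hφ

end Cfsg.Agent.Lib.SolvCent15
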